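import Cfsg.Agent.H500.EqQuot
import Cfsg.Agent.OddOrderLocal.RankBasics
import Cfsg.Agent.S0626

/-!
# Extraspecial Sylow subgroups of order `p ^ 3` and abelian Sylow 2-subgroups

* `no_cube`: if the Sylow 2-subgroups of `G` are abelian, `p` is odd and the Sylow `p`-subgroup `P` is non-abelian of
  order `p ^ 3` and exponent `p`, no subgroup of order `p` of `P` other than the centre of `P` is conjugate to it.
-/

set_option autoImplicit false

namespace Cfsg.Agent.H500

open Subgroup Cfsg.Agent.H501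
open scoped commutatorElement

/-- The centre of a non-abelian group of order `p ^ 3`. -/
theorem card_center_cube {T : Type*} [Group T] {p : ℕ} [hpf : Fact p.Prime] (hT : Nat.card T = p ^ 3)
    (hn : ¬ ∀ a b : T, a * b = b * a) : Nat.card (center T) = p := by
  have hp := hpf.out
  have hfin : Finite T := Nat.finite_of_card_ne_zero (by rw [hT]; exact pow_ne_zero _ hp.ne_zero)
  obtain ⟨k, hk0, hk⟩ := IsPGroup.card_center_eq_prime_pow hT (by norm_num)
  have h1 : Nat.card (T ⧸ center T) * p ^ k = p ^ 3 := by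
    rw [← hk, ← hT]
    exact (card_eq_card_quotient_mul_card_subgroup (center T)).symm
  have h2 : p ^ k ∣ p ^ 3 := ⟨_, by rw [← h1, mul_comm]⟩
  have h3 : k ≤ 3 := (Nat.pow_dvd_pow_iff_le_right hp.one_lt).1 h2
  have h4 : ∀ j, j + k = 3 → Nat.card (T ⧸ center T) = p ^ j := by
    intro j hj
    have h5 : p ^ j * p ^ k = p ^ 3 := by rw [← pow_add, hj]
    exact Nat.eq_of_mul_eq_mul_right (pow_pos hp.pos k) (h1.trans h5.symm)
  have key : IsCyclic (T ⧸ center T) → False := by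
    intro hcyc
    have h5 := MonoidHom.isMulCommutative_of_isCyclic_of_ker_le_center (QuotientGroup.mk' (center T))
      (by rw [QuotientGroup.ker_mk'])
    exact hn h5.is_comm.comm
  interval_cases k
  · rw [hk, pow_one]
  · exfalso
    exact key (isCyclic_of_prime_card (p := p) (by rw [h4 1 (by norm_num), pow_one]))
  · exfalso
    have h5 : Nat.card (T ⧸ center T) = 1 := by rw [h4 0 (by norm_num), pow_zero]
    have h6 : Subsingleton (T ⧸ center T) := (Nat.card_eq_one_iff_unique.1 h5).1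
    exact key inferInstance

/-- Sylow 2-subgroups of a subgroup. -/
theorem comm_sylow_subgroup {G : Type*} [Group G] [Finite G] {q : ℕ} (hab : ∀ T : Sylow q G, IsMulCommutative T)
    (X : Subgroup G) (T : Sylow q X) : IsMulCommutative T := by
  obtain ⟨T', hT'⟩ := (T.isPGroup'.map X.subtype).exists_le_sylow
  have h := (hab T').is_comm.comm
  constructor; constructor
  rintro ⟨x, hx⟩ ⟨y, hy⟩
  apply Subtype.ext; apply Subtype.ext
  have := h ⟨x, hT' ⟨x, hx, rfl⟩⟩ ⟨y, hT' ⟨y, hy, rfl⟩⟩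
  exact congrArg (fun z : T' => (z : G)) this

/-- The main lemma. -/
theorem no_cube {G : Type*} [Group G] [Finite G] {p : ℕ} [hpf : Fact p.Prime] (hp2 : p ≠ 2)
    (hab : ∀ T : Sylow 2 G, IsMulCommutative T) (P : Sylow p G)
    (hc : Nat.card (P : Subgroup G) = p ^ 3) (hexp : ∀ a ∈ (P : Subgroup G), a ^ p = 1)
    (x : G) (hxP : x ∈ (P : Subgroup G)) (hxZ : ¬ ∀ y ∈ (P : Subgroup G), x * y = y * x)
    (z : G) (hzP : z ∈ (P : Subgroup G)) (hz1 : z ≠ 1) (hzZ : ∀ y ∈ (P : Subgroup G), z * y = y * z)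
    (g : G) (hg : zpowers x = (zpowers z).map (MulAut.conj g).toMonoidHom) : False := by
  have hp := hpf.out
  have hx1 : x ≠ 1 := by
    rintro rfl
    exact hxZ fun y _ => by rw [one_mul, mul_one]
  have hxo : orderOf x = p := orderOf_eq_prime (hexp x hxP) hx1
  have hzo : orderOf z = p := orderOf_eq_prime (hexp z hzP) hz1
  have hnc : ¬ ∀ a b : (P : Subgroup G), a * b = b * a := by
    intro h
    exact hxZ fun y hy => congrArg (fun w : (P : Subgroup G) => (w : G)) (h ⟨x, hxP⟩ ⟨y, hy⟩)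
  have hcc := card_center_cube hc hnc
  -- the centre of `P` is `⟨z⟩`
  have hcenter : ∀ y ∈ (P : Subgroup G), (∀ w ∈ (P : Subgroup G), y * w = w * y) → y ∈ zpowers z := by
    have h1 : zpowers (⟨z, hzP⟩ : (P : Subgroup G)) = center (P : Subgroup G) := by
      apply eq_of_le_of_card_ge
      · rw [zpowers_le, mem_center_iff]
        intro w
        exact Subtype.ext (hzZ w w.2).symm
      · rw [hcc, Nat.card_zpowers, orderOf_mk, hzo]
    intro y hy hyc
    have h2 : (⟨y, hy⟩ : (P : Subgroup G)) ∈ center (P : Subgroup G) := by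
      rw [mem_center_iff]
      intro w
      exact Subtype.ext (hyc w w.2).symm
    rw [← h1] at h2
    obtain ⟨k, hk⟩ := mem_zpowers_iff.mp h2
    exact ⟨k, congrArg (fun w : (P : Subgroup G) => (w : G)) hk⟩
  have hcommP : ∀ a ∈ (P : Subgroup G), ∀ b ∈ (P : Subgroup G), ⁅a, b⁆ ∈ zpowers z := by
    have h1 := OddOrderLocal.RankBasics.commutator_le_center_of_card_eq_prime_cube hc
    intro a ha b hb
    have h2 : ⁅(⟨a, ha⟩ : (P : Subgroup G)), (⟨b, hb⟩ : (P : Subgroup G))⁆ ∈ commutator (P : Subgroup G) :=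
      commutator_mem_commutator (mem_top _) (mem_top _)
    have h3 := mem_center_iff.mp (h1 h2)
    apply hcenter
    · exact (⁅(⟨a, ha⟩ : (P : Subgroup G)), (⟨b, hb⟩ : (P : Subgroup G))⁆).2
    · intro w hw
      exact (congrArg (fun w : (P : Subgroup G) => (w : G)) (h3 ⟨w, hw⟩)).symm
  have hxz : x ∉ zpowers z := by
    intro h
    obtain ⟨k, rfl⟩ := mem_zpowers_iff.mp h
    apply hxZ
    intro y hy
    have : Commute z y := hzZ y hy
    exact this.zpow_left k
  -- the subgroup `E`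
  set Cx : Subgroup G := centralizer ({x} : Set G) with hCx
  set E : Subgroup G := (P : Subgroup G) ⊓ Cx with hE
  have hxE : x ∈ E := ⟨hxP, mem_centralizer_singleton_iff.mpr rfl⟩
  have hzE : z ∈ E := ⟨hzP, mem_centralizer_singleton_iff.mpr (hzZ x hxP)⟩
  have hEp : IsPGroup p E := P.isPGroup'.to_le inf_le_left
  have hEc : Nat.card E = p ^ 2 := by
    obtain ⟨k, hk⟩ := IsPGroup.iff_card.mp hEp
    have h1 : E < (P : Subgroup G) := by
      refine lt_of_le_of_ne inf_le_left fun h => hxZ ?_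
      intro y hy
      have h2 : y ∈ E := h ▸ hy
      exact (mem_centralizer_singleton_iff.mp h2.2).symm
    have h2 : zpowers z < E := by
      refine lt_of_le_of_ne (zpowers_le.mpr hzE) fun h => hxz ?_
      rw [h]; exact hxE
    have h3 : Nat.card E < Nat.card (P : Subgroup G) := by
      by_contra hle
      exact h1.ne (eq_of_le_of_card_ge h1.le (not_lt.mp hle))
    have h4 : Nat.card (zpowers z) < Nat.card E := by
      by_contra hle
      exact h2.ne (eq_of_le_of_card_ge h2.le (not_lt.mp hle))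
    rw [hk, hc] at h3
    rw [hk, Nat.card_zpowers, hzo] at h4
    have h5 : k < 3 := (Nat.pow_lt_pow_iff_right hp.one_lt).mp h3
    have h6 : 1 < k := by
      by_contra hle
      have : k ≤ 1 := not_lt.mp hle
      have := Nat.pow_le_pow_right hp.pos this
      rw [pow_one] at this
      omega
    rw [hk]; congr 1; omega
  have hEcomm : ∀ a ∈ E, ∀ b ∈ E, a * b = b * a := by
    have h1 := (IsPGroup.isMulCommutative_of_card_eq_prime_sq hEc).is_comm.comm
    intro a ha b hb
    exact congrArg (fun w : E => (w : G)) (h1 ⟨a, ha⟩ ⟨b, hb⟩)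
  -- the second Sylow subgroup
  have hgz : g * z * g⁻¹ ∈ zpowers x := by
    rw [hg]; exact ⟨z, mem_zpowers z, rfl⟩
  have hxgz : x ∈ zpowers (g * z * g⁻¹) := by
    have h1 : x ∈ (zpowers z).map (MulAut.conj g).toMonoidHom := hg ▸ mem_zpowers x
    rw [MonoidHom.map_zpowers] at h1
    exact h1
  have hPgCx : ((g • P : Sylow p G) : Subgroup G) ≤ Cx := by
    rw [Sylow.coe_subgroup_smul]
    intro y hy
    obtain ⟨w, hw, rfl⟩ := hy
    obtain ⟨k, hk⟩ := mem_zpowers_iff.mp hxgz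
    rw [hCx, mem_centralizer_singleton_iff]
    change (g * w * g⁻¹) * x = x * (g * w * g⁻¹)
    have h2 : Commute (g * w * g⁻¹) (g * z * g⁻¹) := by
      change (g * w * g⁻¹) * (g * z * g⁻¹) = (g * z * g⁻¹) * (g * w * g⁻¹)
      calc (g * w * g⁻¹) * (g * z * g⁻¹) = g * (w * z) * g⁻¹ := by group
        _ = g * (z * w) * g⁻¹ := by rw [hzZ w hw]
        _ = _ := by group
    rw [← hk]
    exact h2.zpow_right k
  obtain ⟨R, hR⟩ := (hEp.comap_subtype (K := Cx) : IsPGroup p (E.subgroupOf Cx)).exists_le_sylow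
  obtain ⟨⟨c, hcCx⟩, hcR⟩ := MulAction.exists_smul_eq Cx ((g • P : Sylow p G).subtype hPgCx) R
  set Q : Sylow p G := c • (g • P) with hQ
  have hEQ : E ≤ (Q : Subgroup G) := by
    intro e he
    have h1 : (⟨e, he.2⟩ : Cx) ∈ (R : Subgroup Cx) := hR he
    rw [← hcR, Sylow.coe_subgroup_smul] at h1
    obtain ⟨y, hy, hye⟩ := h1
    rw [hQ, Sylow.coe_subgroup_smul]
    exact ⟨y, hy, congrArg Subtype.val hye⟩
  have hQmem : ∀ y ∈ (Q : Subgroup G), ∃ w ∈ (P : Subgroup G), y = (c * g) * w * (c * g)⁻¹ := by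
    intro y hy
    rw [hQ, Sylow.coe_subgroup_smul] at hy
    obtain ⟨y1, hy1, rfl⟩ := hy
    have hy2 : y1 ∈ ((g • P : Sylow p G) : Subgroup G) := hy1
    rw [Sylow.coe_subgroup_smul] at hy2
    obtain ⟨w, hw, rfl⟩ := hy2
    refine ⟨w, hw, ?_⟩
    change c * (g * w * g⁻¹) * c⁻¹ = _
    group
  have hcx : c * x * c⁻¹ = x := by
    rw [mem_centralizer_singleton_iff.mp hcCx, mul_inv_cancel_right]
  have hzQ : (c * g) * z * (c * g)⁻¹ ∈ zpowers x := by
    obtain ⟨k, hk⟩ := mem_zpowers_iff.mp hgz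
    have h1 : (c * g) * z * (c * g)⁻¹ = c * (g * z * g⁻¹) * c⁻¹ := by group
    rw [h1, ← hk, ← conj_zpow, hcx]
    exact ⟨k, rfl⟩
  have hcommQ : ∀ a ∈ (Q : Subgroup G), ∀ b ∈ (Q : Subgroup G), ⁅a, b⁆ ∈ zpowers x := by
    intro a' ha' b' hb'
    obtain ⟨a, ha, rfl⟩ := hQmem a' ha'
    obtain ⟨b, hb, rfl⟩ := hQmem b' hb'
    obtain ⟨k, hk⟩ := mem_zpowers_iff.mp (hcommP a ha b hb)
    have h1 : ⁅(c * g) * a * (c * g)⁻¹, (c * g) * b * (c * g)⁻¹⁆ = (c * g) * ⁅a, b⁆ * (c * g)⁻¹ := by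
      simp only [commutatorElement_def]; group
    rw [h1, ← hk, ← conj_zpow]
    exact zpow_mem hzQ k
  -- centrality of `⟨x⟩` in `Q`
  have hxQ : ∀ y ∈ (Q : Subgroup G), x * y = y * x := by
    intro y' hy'
    obtain ⟨w, hw, rfl⟩ := hQmem y' hy'
    obtain ⟨k, hk⟩ := mem_zpowers_iff.mp hxgz
    have h1 : x = (c * g * z * (c * g)⁻¹) ^ k := by
      have h2 : c * g * z * (c * g)⁻¹ = c * (g * z * g⁻¹) * c⁻¹ := by group
      rw [h2, conj_zpow, hk, hcx]
    have h3 : Commute (c * g * z * (c * g)⁻¹) (c * g * w * (c * g)⁻¹) := by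
      change (c * g * z * (c * g)⁻¹) * (c * g * w * (c * g)⁻¹) =
        (c * g * w * (c * g)⁻¹) * (c * g * z * (c * g)⁻¹)
      calc _ = c * g * (z * w) * (c * g)⁻¹ := by group
        _ = c * g * (w * z) * (c * g)⁻¹ := by rw [hzZ w hw]
        _ = _ := by group
    rw [h1]
    exact h3.zpow_left k
  -- both normalise `E`
  set X : Subgroup G := normalizer (E : Set G) with hX
  have hnorm : ∀ S : Subgroup G, (∀ a ∈ S, ∀ e ∈ E, ⁅a, e⁆ ∈ E) → S ≤ X := by
    intro S hS a ha
    rw [hX, mem_normalizer_iff]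
    have h1 : ∀ a ∈ S, ∀ e ∈ E, a * e * a⁻¹ ∈ E := by
      intro a ha e he
      have h2 := mul_mem (hS a ha e he) he
      have h3 : ⁅a, e⁆ * e = a * e * a⁻¹ := by rw [commutatorElement_def]; group
      rwa [h3] at h2
    intro e
    refine ⟨h1 a ha e, fun h => ?_⟩
    have h2 := h1 a⁻¹ (S.inv_mem ha) _ h
    have h3 : a⁻¹ * (a * e * a⁻¹) * a⁻¹⁻¹ = e := by group
    rwa [h3] at h2
  have hzpE : zpowers z ≤ E := zpowers_le.mpr hzE
  have hxpE : zpowers x ≤ E := zpowers_le.mpr hxE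
  have hPX : (P : Subgroup G) ≤ X := hnorm _ fun a ha e he => hzpE (hcommP a ha e he.1)
  have hQX : (Q : Subgroup G) ≤ X := hnorm _ fun a ha e he => hxpE (hcommQ a ha e (hEQ he))
  have hEX : E ≤ X := le_normalizer
  have hEn : (E.subgroupOf X).Normal := Subgroup.normal_in_normalizer
  have hEel : Cfsg.IsElementaryAbelian p (E.subgroupOf X) := by
    refine ⟨⟨⟨?_⟩⟩, ?_⟩
    · rintro ⟨a, ha⟩ ⟨b, hb⟩
      apply Subtype.ext; apply Subtype.ext
      exact hEcomm a ha b hb
    · rintro a ha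
      apply Subtype.ext
      exact hexp a (mem_inf.mp (mem_subgroupOf.mp ha)).1
  have hstab := (S0626.result (G := X) hp2 (fun T => comm_sylow_subgroup hab X T)).1 (E.subgroupOf X) hEel
  set C : Subgroup X := centralizer ((E.subgroupOf X : Subgroup X) : Set X) with hC
  have hmemcore : ∀ (a : X), (∀ e ∈ E, Commute (a : G) ⁅e, (a : G)⁆) →
      (QuotientGroup.mk a : X ⧸ C) ∈ Cfsg.pCore p (X ⧸ C) := by
    intro a ha
    apply hstab
    apply PLocal.ActionStable.commutator_zpowers_eq_bot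
    intro v hv
    apply Subtype.ext
    exact ha v hv
  have hPcore : ∀ (a : X), (a : G) ∈ (P : Subgroup G) → (QuotientGroup.mk a : X ⧸ C) ∈ Cfsg.pCore p (X ⧸ C) := by
    intro a ha
    apply hmemcore
    intro e he
    obtain ⟨k, hk⟩ := mem_zpowers_iff.mp (hcommP e he.1 a ha)
    have h1 : Commute (a : G) z := (hzZ a ha).symm
    rw [← hk]
    exact h1.zpow_right k
  have hQcore : ∀ (a : X), (a : G) ∈ (Q : Subgroup G) → (QuotientGroup.mk a : X ⧸ C) ∈ Cfsg.pCore p (X ⧸ C) := by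
    intro a ha
    apply hmemcore
    intro e he
    obtain ⟨k, hk⟩ := mem_zpowers_iff.mp (hcommQ e (hEQ he) a ha)
    have h1 : Commute (a : G) x := (hxQ a ha).symm
    rw [← hk]
    exact h1.zpow_right k
  have hsurj : Function.Surjective (QuotientGroup.mk' C) := QuotientGroup.mk'_surjective C
  set PX : Sylow p X := P.subtype hPX with hPXdef
  set Pb : Sylow p (X ⧸ C) := PX.mapSurjective hsurj with hPb
  have hPbcore : Cfsg.pCore p (X ⧸ C) = (Pb : Subgroup (X ⧸ C)) := by
    apply Pb.is_maximal' (Lib.Cores.pCore_isPGroup (G := X ⧸ C) p)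
    rintro _ ⟨a, ha, rfl⟩
    exact hPcore a ha
  -- `z` is central in `Q`
  have hzQc : ∀ y ∈ (Q : Subgroup G), z * y = y * z := by
    intro y hy
    have h1 := hQcore ⟨y, hQX hy⟩ hy
    rw [hPbcore] at h1
    obtain ⟨u, hu, huy⟩ := h1
    have hu' : (u : G) ∈ (P : Subgroup G) := hu
    have h2 : u⁻¹ * ⟨y, hQX hy⟩ ∈ C := QuotientGroup.eq.mp huy
    have h3 : (⟨z, hEX hzE⟩ : X) * (u⁻¹ * ⟨y, hQX hy⟩) = (u⁻¹ * ⟨y, hQX hy⟩) * ⟨z, hEX hzE⟩ :=
      mem_centralizer_iff.mp h2 ⟨z, hEX hzE⟩ hzE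
    have h4 : z * ((u : G)⁻¹ * y) = (u : G)⁻¹ * y * z := congrArg (fun w : X => (w : G)) h3
    have h5 := hzZ u hu'
    calc z * y = z * u * ((u : G)⁻¹ * y) := by group
      _ = u * (z * ((u : G)⁻¹ * y)) := by rw [h5]; group
      _ = u * ((u : G)⁻¹ * y * z) := by rw [h4]
      _ = y * z := by group
  -- hence `z ∈ ⟨x⟩`
  have hzx : z ∈ zpowers x := by
    obtain ⟨w, hw, hzw⟩ := hQmem z (hEQ hzE)
    have h1 : w ∈ zpowers z := by
      apply hcenter w hw
      intro v hv
      have h2 : (c * g) * v * (c * g)⁻¹ ∈ (Q : Subgroup G) := by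
        rw [hQ, Sylow.coe_subgroup_smul]
        refine ⟨g * v * g⁻¹, ?_, ?_⟩
        · change g * v * g⁻¹ ∈ ((g • P : Sylow p G) : Subgroup G)
          rw [Sylow.coe_subgroup_smul]
          exact ⟨v, hv, rfl⟩
        · change c * (g * v * g⁻¹) * c⁻¹ = _
          group
      have h3 := hzQc _ h2
      rw [hzw] at h3
      have h4 : (c * g) * (w * v) * (c * g)⁻¹ = (c * g) * (v * w) * (c * g)⁻¹ := by
        calc _ = (c * g * w * (c * g)⁻¹) * (c * g * v * (c * g)⁻¹) := by group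
          _ = (c * g * v * (c * g)⁻¹) * (c * g * w * (c * g)⁻¹) := h3
          _ = _ := by group
      exact mul_left_cancel (mul_right_cancel h4)
    obtain ⟨k, hk⟩ := mem_zpowers_iff.mp h1
    rw [hzw, ← hk, ← conj_zpow]
    exact zpow_mem hzQ k
  have heq : zpowers z = zpowers x := by
    apply eq_of_le_of_card_ge (zpowers_le.mpr hzx)
    rw [Nat.card_zpowers, Nat.card_zpowers, hxo, hzo]
  exact hxz (heq ▸ mem_zpowers x)

end Cfsg.Agent.H500
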