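import Cfsg.Agent.H500.QuatMain
import Cfsg.Agent.S0812
import Cfsg.Agent.ClassicalGeometry.PSLTorus
import Cfsg.Agent.S0253

/-!
# Groups in which any two subgroups of the same order are conjugate
-/

set_option autoImplicit false

namespace Cfsg.Agent.H500

open Subgroup Cfsg.Agent.H501 Cfsg.Agent.Walter.Types

/-- Any two subgroups of the same order are conjugate. -/
def AllConj (G : Type*) [Group G] : Prop :=
  ∀ H K : Subgroup G, Nat.card H = Nat.card K → ∃ g : G, K = H.map (MulAut.conj g).toMonoidHom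

theorem AllConj.of_surjective {G Q : Type*} [Group G] [Finite G] [Group Q] (hC : AllConj G) (f : G →* Q)
    (hf : Function.Surjective f) : AllConj Q := by
  intro A B hAB
  obtain ⟨g, hg⟩ := hC (A.comap f) (B.comap f) (by rw [card_comap f hf, card_comap f hf, hAB])
  refine ⟨f g, ?_⟩
  have h1 : (B.comap f).map f = B := Subgroup.map_comap_eq_self_of_surjective hf B
  have h2 : (A.comap f).map f = A := Subgroup.map_comap_eq_self_of_surjective hf A
  rw [← h1, hg, Subgroup.map_map]
  conv_rhs => rw [← h2, Subgroup.map_map]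
  congr 1
  ext x
  simp

theorem AllConj.congr {G Q : Type*} [Group G] [Finite G] [Group Q] (hC : AllConj G) (e : G ≃* Q) : AllConj Q :=
  hC.of_surjective e.toMonoidHom e.surjective

theorem AllConj.eqConj {G : Type*} [Group G] (hC : AllConj G) (p : ℕ) : EqConj p G :=
  fun H K _ _ h => hC H K h

/-- Two subgroups of the same order, one commutative and the other not. -/
theorem AllConj.not_pair {G D : Type*} [Group G] [Group D] (hC : AllConj G) (f : D →* G)
    (hf : Function.Injective f) (A B : Subgroup D) (hAB : Nat.card A = Nat.card B)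
    (hA : ∀ x ∈ A, ∀ y ∈ A, x * y = y * x) (hB : ¬ ∀ x ∈ B, ∀ y ∈ B, x * y = y * x) : False := by
  obtain ⟨g, hg⟩ := hC (A.map f) (B.map f) (by
    rw [Subgroup.card_map_of_injective hf, Subgroup.card_map_of_injective hf, hAB])
  apply hB
  intro x hx y hy
  have hx' : f x ∈ (A.map f).map (MulAut.conj g).toMonoidHom := hg ▸ Subgroup.mem_map_of_mem f hx
  have hy' : f y ∈ (A.map f).map (MulAut.conj g).toMonoidHom := hg ▸ Subgroup.mem_map_of_mem f hy
  obtain ⟨_, ⟨a, ha, rfl⟩, ha'⟩ := hx'
  obtain ⟨_, ⟨b, hb, rfl⟩, hb'⟩ := hy'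
  apply hf
  rw [map_mul, map_mul, ← ha', ← hb', ← map_mul, ← map_mul, ← map_mul, ← map_mul, hA a ha b hb]

/-- The parity of an element of a dihedral group of order `4 m`. -/
def parity (m : ℕ) : DihedralGroup (2 * m) →* Multiplicative (ZMod 2) where
  toFun x := match x with
    | DihedralGroup.r i => Multiplicative.ofAdd (ZMod.castHom (Dvd.intro m rfl : 2 ∣ 2 * m) (ZMod 2) i)
    | DihedralGroup.sr i => Multiplicative.ofAdd (ZMod.castHom (Dvd.intro m rfl : 2 ∣ 2 * m) (ZMod 2) i)
  map_one' := by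
    show Multiplicative.ofAdd (ZMod.castHom _ (ZMod 2) 0) = 1
    rw [map_zero]; rfl
  map_mul' x y := by
    have h2 : ∀ a b : ZMod 2, b - a = a + b := by decide
    rcases x with i | i <;> rcases y with j | j
    · rw [DihedralGroup.r_mul_r]
      show Multiplicative.ofAdd (ZMod.castHom _ (ZMod 2) (i + j)) = _
      rw [map_add]; rfl
    · rw [DihedralGroup.r_mul_sr]
      show Multiplicative.ofAdd (ZMod.castHom _ (ZMod 2) (j - i)) = _
      rw [map_sub, h2]; rfl
    · rw [DihedralGroup.sr_mul_r]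
      show Multiplicative.ofAdd (ZMod.castHom _ (ZMod 2) (i + j)) = _
      rw [map_add]; rfl
    · rw [DihedralGroup.sr_mul_sr]
      show Multiplicative.ofAdd (ZMod.castHom _ (ZMod 2) (j - i)) = _
      rw [map_sub, h2]; rfl

/-- No dihedral subgroup of order `4 m`, `m ≥ 3`. -/
theorem AllConj.not_dihedral {G : Type*} [Group G] (hC : AllConj G) (m : ℕ) (hm : 3 ≤ m)
    (f : DihedralGroup (2 * m) →* G) (hf : Function.Injective f) : False := by
  have hne : NeZero (2 * m) := ⟨by omega⟩
  refine hC.not_pair f hf (zpowers (DihedralGroup.r 1)) (parity m).ker ?_ ?_ ?_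
  · have h1 : Nat.card (DihedralGroup (2 * m)) = 4 * m := by
      rw [Nat.card_eq_fintype_card, DihedralGroup.card]; ring
    have h2 := (parity m).ker.card_mul_index
    have h3 : (parity m).ker.index = 2 := by
      rw [Subgroup.index_ker]
      have hs : Function.Surjective (parity m) := by
        intro y
        have : y = 1 ∨ y = Multiplicative.ofAdd 1 := by
          revert y; decide
        rcases this with h | h
        · exact ⟨1, by rw [h, map_one]⟩
        · refine ⟨DihedralGroup.r 1, ?_⟩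
          rw [h]
          show Multiplicative.ofAdd (ZMod.castHom _ (ZMod 2) 1) = _
          rw [map_one]
      rw [MonoidHom.range_eq_top_of_surjective _ hs, Subgroup.card_top, Nat.card_eq_fintype_card]
      rfl
    rw [h3, h1] at h2
    rw [Nat.card_zpowers, DihedralGroup.orderOf_r_one]
    omega
  · intro x hx y hy
    obtain ⟨i, rfl⟩ := mem_zpowers_iff.mp hx
    obtain ⟨j, rfl⟩ := mem_zpowers_iff.mp hy
    rw [← zpow_add, ← zpow_add, add_comm]
  · intro h
    have h1 : DihedralGroup.r 2 ∈ (parity m).ker := by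
      rw [MonoidHom.mem_ker]
      show Multiplicative.ofAdd (ZMod.castHom _ (ZMod 2) 2) = _
      rw [map_ofNat]; rfl
    have h2 : DihedralGroup.sr 0 ∈ (parity m).ker := by
      rw [MonoidHom.mem_ker]
      show Multiplicative.ofAdd (ZMod.castHom _ (ZMod 2) 0) = _
      rw [map_zero]; rfl
    have h3 := h _ h1 _ h2
    rw [DihedralGroup.r_mul_sr, DihedralGroup.sr_mul_r] at h3
    have h4 : (0 : ZMod (2 * m)) - 2 = 0 + 2 := by
      injection h3
    have h5 : ((4 : ℕ) : ZMod (2 * m)) = 0 := by
      have : (2 : ZMod (2 * m)) + 2 = 0 := by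
        have := h4
        rw [zero_sub, zero_add] at this
        rw [← sub_eq_zero] at this
        linear_combination -this
      push_cast
      linear_combination this
    rw [ZMod.natCast_eq_zero_iff] at h5
    have := Nat.le_of_dvd (by norm_num) h5
    omega

/-- The group `PSL₂(q)`, `q ≡ 3, 5 mod 8`, `q > 5`. -/
theorem AllConj.psl {F : Type*} [Field F] [Fintype F] (hF : Fintype.card F % 8 = 3 ∨ Fintype.card F % 8 = 5)
    (hC : AllConj (Matrix.ProjectiveSpecialLinearGroup (Fin 2) F)) : Fintype.card F ≤ 5 := by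
  by_contra hcon
  have hgcd : Nat.gcd 2 (Fintype.card F - 1) = 2 := by
    apply Nat.gcd_eq_left
    omega
  rcases hF with hF | hF
  · obtain ⟨C, H, -, -, -, -, ⟨e⟩, -⟩ := Cfsg.Agent.ClassicalGeometry.PSLTorus.exists_psl_torus F
    rw [hgcd] at e
    obtain ⟨m, hm⟩ : ∃ m, (Fintype.card F + 1) / 2 = 2 * m := ⟨(Fintype.card F + 1) / 4, by omega⟩
    rw [hm] at e
    exact hC.not_dihedral m (by omega) (H.subtype.comp e.symm.toMonoidHom)
      (H.subtype_injective.comp e.symm.injective)
  · obtain ⟨H, -, ⟨e⟩⟩ := Cfsg.Agent.S0812.result (F := F) rfl (by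
      simp only [Finset.mem_insert, Finset.mem_singleton]
      omega)
    rw [hgcd] at e
    obtain ⟨m, hm⟩ : ∃ m, (Fintype.card F - 1) / 2 = 2 * m := ⟨(Fintype.card F - 1) / 4, by omega⟩
    rw [hm] at e
    exact hC.not_dihedral m (by omega) (H.subtype.comp e.symm.toMonoidHom)
      (H.subtype_injective.comp e.symm.injective)

/-- The group `J₁`. -/
theorem AllConj.not_isJR {X : Type*} [Group X] [Finite X] (hC : AllConj X) (h : IsJR X) : False := by
  have h2 : Fact (Nat.Prime 2) := ⟨Nat.prime_two⟩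
  obtain ⟨⟨S, hS8, -⟩, F, _, _, hF, hF5, hc⟩ := h
  have h2d : 2 ∣ Nat.card X := by
    have h3 : Nat.card (S : Subgroup X) ∣ Nat.card X := (S : Subgroup X).card_subgroup_dvd_card
    rw [hS8] at h3
    omega
  obtain ⟨t, ht⟩ := exists_prime_orderOf_dvd_card' (G := X) 2 h2d
  obtain ⟨e⟩ := hc t ht
  have hgcd : Nat.gcd 2 (Fintype.card F - 1) = 2 := by
    apply Nat.gcd_eq_left
    omega
  -- a dihedral subgroup of order `2 m`, `m ≥ 3`
  obtain ⟨m, hm, H, ⟨d⟩⟩ : ∃ m : ℕ, 3 ≤ m ∧ ∃ H : Subgroup (Matrix.ProjectiveSpecialLinearGroup (Fin 2) F),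
      Nonempty (H ≃* DihedralGroup m) := by
    obtain ⟨C, H, -, -, -, -, ⟨e⟩, -⟩ := Cfsg.Agent.ClassicalGeometry.PSLTorus.exists_psl_torus F
    exact ⟨_, by rw [hgcd]; omega, H, ⟨e⟩⟩
  have hne : NeZero m := ⟨by omega⟩
  let g : Multiplicative (ZMod 2) × DihedralGroup m →* X :=
    ((centralizer ({t} : Set X)).subtype.comp e.symm.toMonoidHom).comp
      ((MonoidHom.id _).prodMap (H.subtype.comp d.symm.toMonoidHom))
  have hg : Function.Injective g := by
    apply Function.Injective.comp (Function.Injective.comp (Subgroup.subtype_injective _) e.symm.injective)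
    exact Function.Injective.prodMap Function.injective_id (H.subtype_injective.comp d.symm.injective)
  refine hC.not_pair g hg ((⊤ : Subgroup (Multiplicative (ZMod 2))).prod (zpowers (DihedralGroup.r 1)))
    ((⊥ : Subgroup (Multiplicative (ZMod 2))).prod ⊤) ?_ ?_ ?_
  · rw [Nat.card_congr (Subgroup.prodEquiv _ _).toEquiv, Nat.card_congr (Subgroup.prodEquiv _ _).toEquiv,
      Nat.card_prod, Nat.card_prod, Subgroup.card_top, Subgroup.card_bot, Subgroup.card_top, Nat.card_zpowers,
      DihedralGroup.orderOf_r_one, Nat.card_eq_fintype_card, Nat.card_eq_fintype_card, DihedralGroup.card, one_mul]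
    rfl
  · rintro ⟨a, x⟩ ⟨-, hx⟩ ⟨b, y⟩ ⟨-, hy⟩
    obtain ⟨i, hi⟩ := mem_zpowers_iff.mp hx
    obtain ⟨j, hj⟩ := mem_zpowers_iff.mp hy
    refine Prod.ext (mul_comm a b) ?_
    change x * y = y * x
    change _ = x at hi
    change _ = y at hj
    rw [← hi, ← hj, ← zpow_add, ← zpow_add, add_comm]
  · intro h
    have h3 := h (1, DihedralGroup.r 1) ⟨one_mem _, mem_top _⟩ (1, DihedralGroup.sr 0) ⟨one_mem _, mem_top _⟩
    have h4 := congrArg Prod.snd h3
    change DihedralGroup.r 1 * DihedralGroup.sr 0 = DihedralGroup.sr 0 * DihedralGroup.r 1 at h4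
    rw [DihedralGroup.r_mul_sr, DihedralGroup.sr_mul_r] at h4
    have h5 : (0 : ZMod m) - 1 = 0 + 1 := by injection h4
    have h6 : ((2 : ℕ) : ZMod m) = 0 := by
      rw [zero_sub, zero_add] at h5
      push_cast
      linear_combination -h5
    rw [ZMod.natCast_eq_zero_iff] at h6
    have := Nat.le_of_dvd (by norm_num) h6
    omega

end Cfsg.Agent.H500
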