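import Cfsg.Agent.H500.ElemMain
import Cfsg.Agent.SmallSimple.KleinFourAut
import Cfsg.Agent.TwoFusion.QuatSolvable
import Cfsg.Agent.LFourA.OddFree
import Cfsg.Agent.S0251
import Cfsg.Agent.S4020

/-!
# Elementary abelian Sylow 2-subgroups when `p`-subgroups of the same order are conjugate
-/

set_option autoImplicit false

namespace Cfsg.Agent.H500

open Subgroup Cfsg.Agent.H501 Cfsg.Agent.Walter.Types Cfsg.Agent.Walter.TypeSylow Cfsg.Agent.Walter.Main
open Cfsg.Agent.ClassificationK.WalterIso

universe u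

variable {X : Type u} [Group X] [Finite X]

omit [Finite X] in
/-- No normal subgroups of odd order. -/
theorem eq_bot_of_odd (hO : Cfsg.oddCore X = ⊥) (M : Subgroup X) (hM : M.Normal) (h : Odd (Nat.card M)) : M = ⊥ := by
  rw [eq_bot_iff, ← hO]
  exact le_sSup ⟨hM, (Nat.coprime_two_right).mpr h⟩

/-- A normal self-centralizing four-group with conjugate involutions: the alternating group of degree four. -/
theorem equiv_a4 (hC : EqConj 2 X) (hO : Cfsg.oddCore X = ⊥) (T : Sylow 2 X)
    (hTn : (T : Subgroup X).Normal) (hel : Cfsg.IsElementaryAbelian 2 (T : Subgroup X)) (hT : Nat.card T = 4) :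
    Nonempty (X ≃* alternatingGroup (Fin 4)) := by
  have h2 : Fact (Nat.Prime 2) := ⟨Nat.prime_two⟩
  have hc : ∀ a ∈ (T : Subgroup X), ∀ b ∈ (T : Subgroup X), a * b = b * a := fun a ha b hb =>
    congrArg Subtype.val (hel.1.is_comm.comm (⟨a, ha⟩ : (T : Subgroup X)) ⟨b, hb⟩)
  have hcent : centralizer ((T : Subgroup X) : Set X) ≤ (T : Subgroup X) := by
    have hn : (centralizer ((T : Subgroup X) : Set X)).Normal := Subgroup.normal_centralizer
    apply Cfsg.Agent.LFourA.OddFree.le_of_central hO T
    intro y _ hyT g hg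
    exact (mem_centralizer_iff.mp hg y hyT).symm
  have hcentT : centralizer ((T : Subgroup X) : Set X) = (T : Subgroup X) := by
    apply le_antisymm hcent
    intro a ha
    rw [mem_centralizer_iff]
    exact fun b hb => hc b hb a ha
  -- the index divides 6
  let φ : X →* MulAut (T : Subgroup X) := MulAut.conjNormal
  have hker : φ.ker = (T : Subgroup X) := by
    refine Eq.trans ?_ hcentT
    ext g
    rw [MonoidHom.mem_ker, mem_centralizer_iff]
    constructor
    · intro hg n hn
      have h1 : (MulAut.conjNormal g : MulAut (T : Subgroup X)) ⟨n, hn⟩ = ⟨n, hn⟩ := by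
        change φ g ⟨n, hn⟩ = _
        rw [hg]; rfl
      have h3 : g * n * g⁻¹ = n := by
        have := congrArg Subtype.val h1
        rwa [MulAut.conjNormal_apply] at this
      rw [mul_inv_eq_iff_eq_mul] at h3
      exact h3.symm
    · intro hg
      apply MulEquiv.ext
      intro n
      apply Subtype.ext
      change ((MulAut.conjNormal g : MulAut (T : Subgroup X)) n : X) = n
      rw [MulAut.conjNormal_apply, mul_inv_eq_iff_eq_mul]
      exact (hg n n.2).symm
  have h3 : (T : Subgroup X).index ∣ 6 := by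
    have h4 : φ.ker.index ∣ Nat.card (MulAut (T : Subgroup X)) := by
      rw [Subgroup.index_ker]
      exact Subgroup.card_subgroup_dvd_card _
    rw [hker] at h4
    refine h4.trans ((Cfsg.Agent.SmallSimple.KleinFourAut.card_mulAut_dvd (T : Subgroup X)).trans ?_)
    rw [hT]
    exact dvd_of_eq rfl
  have h4 : ¬ 2 ∣ (T : Subgroup X).index := T.not_dvd_index
  -- the index is not one
  have h5 : (T : Subgroup X).index ≠ 1 := by
    intro h6
    rw [Subgroup.index_eq_one] at h6
    have hall : ∀ a b : X, a * b = b * a := fun a b => hc a (h6 ▸ mem_top a) b (h6 ▸ mem_top b)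
    have hcard : Nat.card X = 4 := by
      rw [← hT, h6]; exact Subgroup.card_top.symm
    obtain ⟨a, ha⟩ := exists_prime_orderOf_dvd_card' (G := X) 2 (by rw [hcard]; norm_num)
    -- all elements of order two generate the same subgroup
    have hone : ∀ b : X, b = 1 ∨ b = a := by
      intro b
      by_cases hb : b = 1
      · exact Or.inl hb
      right
      have hb2 : b ^ 2 = 1 := hel.2 b (h6 ▸ mem_top b)
      have hbo : orderOf b = 2 := orderOf_eq_prime hb2 hb
      obtain ⟨g, hg⟩ := hC (zpowers a) (zpowers b)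
        (IsPGroup.of_card (n := 1) (by rw [Nat.card_zpowers, ha, pow_one]))
        (IsPGroup.of_card (n := 1) (by rw [Nat.card_zpowers, hbo, pow_one]))
        (by rw [Nat.card_zpowers, Nat.card_zpowers, ha, hbo])
      have h7 : b ∈ (zpowers a).map (MulAut.conj g).toMonoidHom := hg ▸ mem_zpowers b
      obtain ⟨c, hc1, hc2⟩ := h7
      have hc3 : g * c * g⁻¹ = b := hc2
      rw [hall g c, mul_inv_cancel_right] at hc3
      rw [hc3] at hc1
      rcases (Subgroup.mem_zpowers_iff.mp hc1) with ⟨k, hk⟩
      rw [← zpow_mod_orderOf, ha] at hk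
      rcases Int.emod_two_eq_zero_or_one k with h8 | h8
      · push_cast at hk
        rw [h8, zpow_zero] at hk
        exact absurd hk.symm hb
      · push_cast at hk
        rw [h8, zpow_one] at hk
        exact hk.symm
    have h9 : Nat.card X ≤ 2 := by
      have h10 : (⊤ : Subgroup X) ≤ zpowers a := by
        intro b _
        rcases hone b with h | h
        · rw [h]; exact one_mem _
        · rw [h]; exact mem_zpowers a
      have h11 := Subgroup.card_le_of_le h10
      rwa [Subgroup.card_top, Nat.card_zpowers, ha] at h11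
    omega
  have h6 : (T : Subgroup X).index = 3 := by
    have h7 : (T : Subgroup X).index ≤ 6 := Nat.le_of_dvd (by norm_num) h3
    generalize (T : Subgroup X).index = k at *
    interval_cases k <;> omega
  apply Cfsg.Agent.TwoFusion.QuatSolvable.equiv_A4 (G := X) _ (T : Subgroup X) hT hel.2
  · intro g hg
    apply hcent
    rw [mem_centralizer_iff]
    exact fun v hv => (hg v hv).symm
  · rw [← (T : Subgroup X).card_mul_index, hT, h6]

/-- Elementary abelian Sylow 2-subgroups of order at least four. -/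
theorem elem_main (hC : CentThm.{u}) (hR : ReeThm.{u}) (hS : Step.{u})
    (hD : ∀ p : ℕ, p.Prime → EqConj p X) (hO : Cfsg.oddCore X = ⊥) (T : Sylow 2 X)
    (hel : Cfsg.IsElementaryAbelian 2 (T : Subgroup X)) (n : ℕ) (hn : 2 ≤ n) (hT : Nat.card T = 2 ^ n) :
    (n ≠ 2 ∧ (Nonempty (X ≃* Cfsg.affineGroup (GaloisField 2 3)) ∨
      Nonempty (X ≃* Cfsg.semiaffineGroup (GaloisField 2 3)) ∨
      Nonempty (X ≃* Cfsg.semiaffineGroup (GaloisField 2 5)) ∨
      (Cfsg.IsJ1 X ∧ IsJR X) ∨
      Nonempty (X ≃* Matrix.ProjectiveSpecialLinearGroup (Fin 2) (GaloisField 2 3)) ∨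
      Nonempty (X ≃* MulAut (Matrix.ProjectiveSpecialLinearGroup (Fin 2) (GaloisField 2 5))))) ∨
    (n = 2 ∧ ∃ (p : ℕ) (_ : Fact p.Prime), (p % 8 = 3 ∨ p % 8 = 5) ∧
      (Nonempty (X ≃* Matrix.ProjectiveSpecialLinearGroup (Fin 2) (ZMod p)) ∨
       Nonempty (X ≃* Matrix.ProjectiveSpecialLinearGroup (Fin 2) (GaloisField p 3)))) := by
  have h2 : Fact (Nat.Prime 2) := ⟨Nat.prime_two⟩
  have hodd := eq_bot_of_odd hO
  have hc : ∀ a ∈ (T : Subgroup X), ∀ b ∈ (T : Subgroup X), a * b = b * a := fun a ha b hb =>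
    congrArg Subtype.val (hel.1.is_comm.comm (⟨a, ha⟩ : (T : Subgroup X)) ⟨b, hb⟩)
  have hTne : (T : Subgroup X) ≠ ⊥ := by
    intro h
    rw [h, Subgroup.card_bot] at hT
    have : 2 ^ 2 ≤ 2 ^ n := Nat.pow_le_pow_right (by norm_num) hn
    omega
  have htop : (⊤ : Subgroup X) ≠ ⊥ := fun h => hTne (le_bot_iff.mp (h ▸ le_top))
  obtain ⟨N, hN, hN1, -, hmin⟩ := exists_minimal_normal (⊤ : Subgroup X) inferInstance htop
  have hNe : 2 ∣ Nat.card N := by
    rw [← even_iff_two_dvd, ← Nat.not_odd_iff_even]
    exact fun h => hN1 (hodd N hN h)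
  have hTN : (T : Subgroup X) ≤ N := fun a ha => (hD 2 Nat.prime_two).mem_of_normal N hNe a (hel.2 a ha)
  by_cases hna : ∀ x ∈ N, ∀ y ∈ N, Commute x y
  · -- `T` is normal
    have hTn : (T : Subgroup X).Normal := by
      let T' : Sylow 2 N := T.subtype hTN
      have hT'n : (T' : Subgroup N).Normal := ⟨fun a ha g => by
        have : g * a * g⁻¹ = a := by
          apply Subtype.ext
          have h3 : (g : X) * a = a * g := hna g g.2 a a.2
          show (g : X) * a * (g : X)⁻¹ = a
          rw [h3, mul_inv_cancel_right]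
        rw [this]; exact ha⟩
      have hT'c : (T' : Subgroup N).Characteristic := Sylow.characteristic_of_normal T' hT'n
      have h3 : ((T' : Subgroup N).map N.subtype).Normal := inferInstance
      have h4 : (T' : Subgroup N).map N.subtype = (T : Subgroup X) := by
        have h5 : (T' : Subgroup N) = (T : Subgroup X).subgroupOf N := rfl
        rw [h5, Subgroup.subgroupOf_map_subtype, inf_eq_left.mpr hTN]
      rwa [h4] at h3
    rcases Nat.lt_or_ge n 3 with h5 | h5
    · have h6 : n = 2 := by omega
      subst h6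
      right
      refine ⟨rfl, 3, ⟨Nat.prime_three⟩, Or.inl (by norm_num), Or.inl ?_⟩
      obtain ⟨e1⟩ := equiv_a4 (hD 2 Nat.prime_two) hO T hTn hel (by rw [hT]; norm_num)
      have h3F : Fact (Nat.Prime 3) := ⟨Nat.prime_three⟩
      obtain ⟨e2⟩ := Cfsg.Agent.S0251.result (F := ZMod 3) (ZMod.card 3)
      exact ⟨e1.trans e2.symm⟩
    · left
      refine ⟨by omega, ?_⟩
      rcases affine_cases (hD 2 Nat.prime_two) hO T hTn n h5 hel hT with h | h | h
      · exact Or.inl h
      · exact Or.inr (Or.inl h)
      · exact Or.inr (Or.inr (Or.inl h))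
  · have hs : IsSimpleGroup N := isSimpleGroup_of_minimal (hD 2 Nat.prime_two) N hmin hna hNe
    have hall : ∀ T' : Sylow 2 X, Cfsg.IsElementaryAbelian 2 (T' : Subgroup X) := by
      intro T'
      let e := T'.equiv T
      refine ⟨⟨⟨fun a b => e.injective ?_⟩⟩, fun a ha => ?_⟩
      · rw [map_mul, map_mul]
        exact hel.1.is_comm.comm _ _
      · have h3 : (⟨a, ha⟩ : (T' : Subgroup X)) ^ 2 = 1 := by
          apply e.injective
          rw [map_pow, map_one]
          exact Subtype.ext (hel.2 _ (e ⟨a, ha⟩).2)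
        exact congrArg Subtype.val h3
    have hSett : Sett X N := by
      refine ⟨hD, hodd, ?_, hall, hN, hs, hna, hNe⟩
      intro p hp P
      rcases Cfsg.Agent.S4020.result (fun p hp => hD p hp) P with h3 | h3 | ⟨⟨e⟩⟩
      · exact Or.inl h3
      · exact Or.inr h3
      · right
        have h4 : Nat.card (P : Subgroup X) = 8 := by
          rw [Nat.card_congr e.toEquiv, Nat.card_eq_fintype_card, QuaternionGroup.card]
        obtain ⟨k, hk⟩ := IsPGroup.iff_card.mp P.isPGroup'
        have h5 : p = 2 := by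
          rw [h4] at hk
          have h6 : p ∣ 2 ^ 3 := by
            have h7 : k ≠ 0 := by
              rintro rfl
              norm_num at hk
            rw [show 2 ^ 3 = 8 from rfl, hk]
            exact dvd_pow_self p h7
          exact (Nat.prime_dvd_prime_iff_eq hp.out Nat.prime_two).mp (hp.out.dvd_of_dvd_pow h6)
        subst h5
        exact hall P
    have hna' : ¬ IsMulCommutative N := by
      intro hc'
      apply hna
      intro x hx y hy
      exact congrArg Subtype.val (hc'.is_comm.comm ⟨x, hx⟩ ⟨y, hy⟩)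
    have hW : WType N := by
      apply wType_of_step hS N hs hna' (T.subtype hTN)
      intro a ha b hb
      exact Subtype.ext (hc a ha b hb)
    rcases hSett.main hC hR hW T n hT with ⟨h3, h4 | h4 | h4⟩ | h3
    · exact Or.inl ⟨h3, Or.inr (Or.inr (Or.inr (Or.inl h4)))⟩
    · exact Or.inl ⟨h3, Or.inr (Or.inr (Or.inr (Or.inr (Or.inl h4))))⟩
    · exact Or.inl ⟨h3, Or.inr (Or.inr (Or.inr (Or.inr (Or.inr h4))))⟩
    · exact Or.inr h3

end Cfsg.Agent.H500
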