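import Cfsg.Agent.H500.ElemType
import Cfsg.Agent.S1154
import Cfsg.Agent.S1101
import Cfsg.Agent.OddHalf.D4.Spor.J1Out
import Cfsg.Prelude.Def_Spor_J1
import Cfsg.Prelude.Def_LieTwisted

/-!
# The nonabelian case with elementary abelian Sylow 2-subgroups: the Ree groups and `J₁`
-/

set_option autoImplicit false

namespace Cfsg.Agent.H500

open Subgroup Cfsg.Agent.H501

variable {X : Type*} [Group X] [Finite X] {N : Subgroup X}

/-- The Ree groups do not occur: a Sylow 3-subgroup is neither cyclic nor of exponent 3. -/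
theorem Sett.not_ree (h : Sett X N) (hR : Cfsg.Lie.IsoRee N) : False := by
  obtain ⟨K, _, _, m, hm, hK, ⟨e⟩⟩ := hR
  have h3 : Fact (Nat.Prime 3) := ⟨Nat.prime_three⟩
  obtain ⟨-, hU⟩ := Cfsg.Agent.S1101.result (m := m) hK
  have hcount := Cfsg.Agent.S1154.result hm hK
  set U := Cfsg.Lie.chevG2.posUnipotent K ⊓ Cfsg.Lie.twistedG2 K (3 ^ m) with hUdef
  let f : U →* X := N.subtype.comp (e.symm.toMonoidHom.comp (Subgroup.inclusion inf_le_right))
  have hf : Function.Injective f := by
    intro a b hab
    exact Subgroup.inclusion_injective _ (e.symm.injective (N.subtype_injective hab))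
  have hUg : IsPGroup 3 U := IsPGroup.of_card (n := (2 * m + 1) * 3) (by rw [hU, ← pow_mul])
  have hUfin : Finite U := Finite.of_injective f hf
  have hVg : IsPGroup 3 f.range := hUg.of_surjective _ f.rangeRestrict_surjective
  obtain ⟨P, hP⟩ := hVg.exists_le_sylow
  set q := 3 ^ (2 * m + 1) with hq
  have hq27 : 27 ≤ q := by
    have : 3 ^ 3 ≤ 3 ^ (2 * m + 1) := Nat.pow_le_pow_right (by norm_num) (by omega)
    omega
  rcases h.syl 3 P with h1 | h1
  · have hrc : IsCyclic f.range := isCyclic_of_injective (Subgroup.inclusion hP) (Subgroup.inclusion_injective hP)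
    have hUc : IsCyclic U := (MonoidHom.ofInjective hf).isCyclic.mpr hrc
    have : Fintype U := Fintype.ofFinite U
    classical
    have h2 := IsCyclic.card_pow_eq_one_le (α := U) (n := 3) (by norm_num)
    have h4 : Nat.card {u : U // orderOf u = 3} ≤ 3 := by
      rw [Nat.card_eq_fintype_card, Fintype.card_subtype]
      refine le_trans (Finset.card_le_card ?_) h2
      intro u hu
      rw [Finset.mem_filter] at hu ⊢
      exact ⟨hu.1, hu.2 ▸ pow_orderOf_eq_one u⟩
    rw [hcount] at h4
    have h5 : 27 ^ 2 ≤ q ^ 2 := Nat.pow_le_pow_left hq27 2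
    omega
  · have h2 : ∀ u : U, u ^ 3 = 1 := by
      intro u
      apply hf
      rw [map_pow, map_one]
      exact h1.2 _ (hP ⟨u, rfl⟩)
    have h4 : Nat.card {u : U // orderOf u = 3} = Nat.card {u : U // u ≠ 1} := by
      apply Nat.card_congr
      apply Equiv.subtypeEquivRight
      intro u
      constructor
      · rintro h5 rfl
        rw [orderOf_one] at h5
        omega
      · exact fun h5 => orderOf_eq_prime (p := 3) (h2 u) h5
    have h5 : Nat.card {u : U // u ≠ 1} = Nat.card U - 1 := by
      have : Fintype U := Fintype.ofFinite U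
      classical
      rw [Nat.card_eq_fintype_card, Nat.card_eq_fintype_card, Fintype.card_subtype_compl, Fintype.card_subtype_eq]
    rw [h4, h5, hU] at hcount
    have h6 : q ^ 2 < q ^ 3 := Nat.pow_lt_pow_right (by omega) (by norm_num)
    have h7 : 1 ≤ q ^ 2 := Nat.one_le_pow _ _ (by omega)
    omega

/-- A normal `J₁` is the whole group. -/
theorem Sett.j1_index (h : Sett X N) (hJ : Cfsg.Spor.IsoJ1 N) : N.index = 1 := by
  obtain ⟨e⟩ := hJ
  have hn := h.norm
  rw [Subgroup.index_eq_one, eq_top_iff]
  intro g _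
  obtain ⟨k, hk⟩ := Cfsg.Agent.OddHalf.D4.Spor.J1Out.inn (MulAut.congr e (MulAut.conjNormal g))
  have h1 : (MulAut.conjNormal g : MulAut N) = MulAut.conj (e.symm k) := by
    apply (MulAut.congr e).injective
    rw [hk]
    apply MulEquiv.ext
    intro x
    show k * x * k⁻¹ = e (e.symm k * e.symm x * (e.symm k)⁻¹)
    rw [map_mul, map_mul, map_inv, e.apply_symm_apply, e.apply_symm_apply]
  have h2 : (MulAut.conjNormal (((e.symm k : N) : X)⁻¹ * g) : MulAut N) = 1 := by
    rw [map_mul, h1]
    ext x
    rw [MulAut.mul_apply, MulAut.conjNormal_apply, MulAut.conj_apply]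
    simp [mul_assoc]
  have h3 : ((e.symm k : N) : X)⁻¹ * g = 1 :=
    conjNormal_injective N h.cent (by rw [h2, map_one])
  rw [inv_mul_eq_one] at h3
  rw [← h3]
  exact (e.symm k).2

end Cfsg.Agent.H500
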