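import Cfsg.Agent.H500.ElemJR
import Cfsg.Agent.Walter.Main
import Cfsg.Agent.ClassificationK.WalterIso
import Cfsg.Agent.LieClassical.FieldTransfer

/-!
# The nonabelian case with elementary abelian Sylow 2-subgroups
-/

set_option autoImplicit false

namespace Cfsg.Agent.H500

open Subgroup Cfsg.Agent.H501 Cfsg.Agent.Walter.Types Cfsg.Agent.Walter.TypeSylow Cfsg.Agent.Walter.Main
open Cfsg.Agent.ClassificationK.WalterIso

universe u

variable {X : Type u} [Group X] [Finite X] {N : Subgroup X}

/-- `PSL₂` over isomorphic fields. -/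
theorem psl_equiv {F K : Type*} [Field F] [Fintype F] [Field K] [Fintype K] (h : Fintype.card F = Fintype.card K) :
    Nonempty (Matrix.ProjectiveSpecialLinearGroup (Fin 2) F ≃* Matrix.ProjectiveSpecialLinearGroup (Fin 2) K) :=
  ⟨Cfsg.Agent.LieClassical.FieldTransfer.pslCongr (FiniteField.ringEquivOfCardEq h)⟩

/-- `PSL₂` over the field of the library. -/
theorem psl_galois {F : Type*} [Field F] [Fintype F] (p n : ℕ) [Fact p.Prime] (hn : n ≠ 0)
    (h : Fintype.card F = p ^ n) :
    Nonempty (Matrix.ProjectiveSpecialLinearGroup (Fin 2) F ≃*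
      Matrix.ProjectiveSpecialLinearGroup (Fin 2) (GaloisField p n)) := by
  have : Fintype (GaloisField p n) := Fintype.ofFinite _
  apply psl_equiv
  rw [h, ← Nat.card_eq_fintype_card, GaloisField.card p n hn]

/-- `PSL₂` over the prime field. -/
theorem psl_zmod {F : Type*} [Field F] [Fintype F] (p : ℕ) [Fact p.Prime]
    (h : Fintype.card F = p) :
    Nonempty (Matrix.ProjectiveSpecialLinearGroup (Fin 2) F ≃*
      Matrix.ProjectiveSpecialLinearGroup (Fin 2) (ZMod p)) := by
  apply psl_equiv
  rw [h, ZMod.card]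

/-- The conclusion for a nonabelian normal subgroup. -/
theorem Sett.main (hC : CentThm.{u}) (hR : ReeThm.{u}) (h : Sett X N) (hW : WType N) (T : Sylow 2 X) (n : ℕ)
    (hT : Nat.card T = 2 ^ n) :
    (n ≠ 2 ∧ ((Cfsg.IsJ1 X ∧ IsJR X) ∨
    Nonempty (X ≃* Matrix.ProjectiveSpecialLinearGroup (Fin 2) (GaloisField 2 3)) ∨
    Nonempty (X ≃* MulAut (Matrix.ProjectiveSpecialLinearGroup (Fin 2) (GaloisField 2 5))))) ∨
    (n = 2 ∧ ∃ (p : ℕ) (_ : Fact p.Prime), (p % 8 = 3 ∨ p % 8 = 5) ∧
      (Nonempty (X ≃* Matrix.ProjectiveSpecialLinearGroup (Fin 2) (ZMod p)) ∨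
       Nonempty (X ≃* Matrix.ProjectiveSpecialLinearGroup (Fin 2) (GaloisField p 3)))) := by
  have hn := h.norm
  have hs := h.simple
  have h2 : Fact (Nat.Prime 2) := ⟨Nat.prime_two⟩
  have hna : ¬ IsMulCommutative N := by
    intro hc
    apply h.na
    intro x hx y hy
    exact congrArg Subtype.val (hc.is_comm.comm ⟨x, hx⟩ ⟨y, hy⟩)
  let S : Sylow 2 N := T.subtype (h.le T)
  have hS : Nat.card (S : Subgroup N) = 2 ^ n := by
    rw [← hT]
    exact Nat.card_congr (Subgroup.subgroupOfEquivOfLe (h.le T)).toEquiv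
  rcases hW with ⟨F, i1, i2, k, hk, hF, ⟨e⟩⟩ | ⟨F, i1, i2, hF8, hF5, ⟨e⟩⟩ | hJR
  · have h3 := card_sylow_even hF e S
    rw [hS] at h3
    have h4 : n = k := Nat.pow_right_injective le_rfl h3
    subst h4
    rcases Nat.lt_or_ge n 3 with h5 | h5
    · -- `PSL₂(4) ≅ PSL₂(5)`
      have h6 : n = 2 := by omega
      subst h6
      right
      have h5F : Fact (Nat.Prime 5) := ⟨by norm_num⟩
      obtain ⟨e1⟩ := psl_four_equiv (F := F) (by rw [hF]; norm_num)
      obtain ⟨e2⟩ := equiv_of_index_one (h.index_eq_one e (p := 2) (f := 2) (by omega) hF (by norm_num)) (e.trans e1)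
      exact ⟨rfl, 5, h5F, Or.inr (by norm_num), Or.inl ⟨e2⟩⟩
    · rcases rank_cases (h.eq 2 Nat.prime_two) T n h5 (h.two T) hT with h6 | ⟨h6, h7⟩
      · subst h6
        refine Or.inl ⟨by norm_num, Or.inr (Or.inl ?_)⟩
        obtain ⟨e1⟩ := psl_galois (F := F) 2 3 (by norm_num) hF
        exact equiv_of_index_one (h.index_eq_one e (p := 2) (f := 3) (by omega) hF (by norm_num)) (e.trans e1)
      · subst h6
        refine Or.inl ⟨by norm_num, Or.inr (Or.inr ?_)⟩
        obtain ⟨e1⟩ := psl_galois (F := F) 2 5 (by norm_num) hF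
        -- the index is 5
        have hcard : Nat.card N = 32736 := by
          rw [Nat.card_congr e.toEquiv, Cfsg.Agent.ClassicalGeometry.PSL2Basic.card_PSL2_even F
            (by rw [hF]; decide), hF]
          norm_num
        have h8 : 5 ∣ N.index := by
          have h9 := N.card_mul_index
          rw [← h9, hcard] at h7
          exact (Nat.Coprime.dvd_of_dvd_mul_left (by norm_num) h7)
        have h9 := index_dvd_psl N h.cent e 2 5 (by norm_num) hF (by norm_num)
        have h10 : N.index = 5 := by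
          apply Nat.dvd_antisymm _ h8
          rw [hF] at h9
          norm_num at h9
          exact h9
        have h11 : Nat.card (MulAut N) = Nat.card X := by
          have h12 : Nat.card (MulAut N) = Nat.card (MulAut (Matrix.ProjectiveSpecialLinearGroup (Fin 2) F)) :=
            Nat.card_congr (MulAut.congr e).toEquiv
          have h13 := Cfsg.Agent.S0813.result (F := F) 2 5 (by norm_num) hF 2 le_rfl (fun _ => by norm_num)
          rw [if_pos rfl, one_mul, Cfsg.Agent.ClassicalGeometry.PSL2Basic.card_PGL2, hF] at h13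
          rw [h12, h13, ← N.card_mul_index, hcard, h10]
          norm_num
        have hinj := conjNormal_injective N h.cent
        have hbij : Function.Bijective (MulAut.conjNormal : X →* MulAut N) := by
          have : Finite (MulAut N) := Nat.finite_of_card_ne_zero (by rw [h11]; exact Nat.card_pos.ne')
          rw [Nat.bijective_iff_injective_and_card]
          exact ⟨hinj, h11.symm⟩
        exact ⟨(MulEquiv.ofBijective _ hbij).trans (MulAut.congr (e.trans e1))⟩
  · have h3 := card_sylow_odd hF8 e S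
    rw [hS] at h3
    have h4 : n = 2 := Nat.pow_right_injective le_rfl (h3.trans (by norm_num))
    right
    refine ⟨h4, ?_⟩
    obtain ⟨p, hCP, f, hp, hF⟩ := FiniteField.card' F
    have hpF : Fact p.Prime := ⟨hp⟩
    have hf0 : 1 ≤ (f : ℕ) := f.pos
    generalize (f : ℕ) = f' at *
    have hf := h.odd_type hF8 e hf0 hF
    have h5 : 4 ≤ p ^ f' := by rw [← hF]; omega
    have h6 : N.index = 1 := h.index_eq_one e (by omega) hF h5
    obtain ⟨e1⟩ := equiv_of_index_one h6 e
    refine ⟨p, hpF, ?_, ?_⟩
    · rcases hf with h7 | h7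
      · subst h7
        rwa [hF, pow_one] at hF8
      · subst h7
        have h8 : p % 8 < 8 := Nat.mod_lt _ (by norm_num)
        rw [hF, Nat.pow_mod] at hF8
        generalize p % 8 = r at *
        interval_cases r <;> simp_all
    · rcases hf with h7 | h7
      · subst h7
        obtain ⟨e2⟩ := psl_zmod (F := F) p (by rw [hF, pow_one])
        exact Or.inl ⟨e1.trans e2⟩
      · subst h7
        obtain ⟨e2⟩ := psl_galois (F := F) p 3 (by norm_num) hF
        exact Or.inr ⟨e1.trans e2⟩
  · rcases iso_of_isJR hC hR hna hJR with h3 | h3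
    · exact (h.not_ree h3).elim
    · have h8 := (card_sylow_JR hJR S).1
      rw [hS] at h8
      refine Or.inl ⟨?_, Or.inl ?_⟩
      · rintro rfl
        omega
      have h4 := h.j1_index h3
      obtain ⟨e⟩ := h3
      obtain ⟨e1⟩ := equiv_of_index_one h4 e
      obtain ⟨e2⟩ := equiv_of_index_one h4 (MulEquiv.refl N)
      have h5 : IsSimpleGroup X := e2.isSimpleGroup
      exact ⟨⟨h5, by rw [Nat.card_congr e1.toEquiv]; exact Cfsg.Agent.SignalizersComponents.BalEndJ1.card_J1⟩,
        hJR.congr e2.symm⟩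

end Cfsg.Agent.H500
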