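import Cfsg.Agent.H500.SocleSimple
import Cfsg.Agent.S4145
import Cfsg.Agent.S0813
import Cfsg.Agent.ClassicalGeometry.PSL2Basic
import Cfsg.Agent.ThreePrime.OrderThree

/-!
# Simple normal subgroups when any two `p`-subgroups of the same order are conjugate

* `not_dvd_index`: the index of a non-abelian simple normal subgroup is not divisible by `p` if the order is.
* `centralizer_eq_bot`: the centralizer is trivial if there are no normal subgroups of odd order.
* `index_dvd_psl`: the index of a normal `PSL₂(q)`.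
-/

set_option autoImplicit false

namespace Cfsg.Agent.H500

open Subgroup Cfsg.Agent.H501

variable {X : Type*} [Group X] [Finite X]

/-- A non-abelian simple group of order divisible by `p` has no normal `p`-complement. -/
theorem no_complement {N : Type*} [Group N] [Finite N] [hs : IsSimpleGroup N] {p : ℕ} [hp : Fact p.Prime]
    (hna : ¬ ∀ x y : N, x * y = y * x) (hd : p ∣ Nat.card N) (h : Cfsg.HasNormalPComplement p N) : False := by
  obtain ⟨P, K, hK, hc⟩ := h
  rcases hK.eq_bot_or_eq_top with h1 | h1
  · subst h1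
    have h2 : (P : Subgroup N) = ⊤ := isComplement'_bot_left.mp hc
    have h3 : IsPGroup p N := by
      have h4 := P.isPGroup'
      rw [h2] at h4
      exact h4.of_equiv topEquiv
    have hnt : Nontrivial (center N) := h3.center_nontrivial
    rcases (inferInstance : (center N).Normal).eq_bot_or_eq_top with h4 | h4
    · exact (Subgroup.nontrivial_iff_ne_bot _).mp hnt h4
    · apply hna
      intro x y
      have h5 : y ∈ center N := h4 ▸ mem_top y
      exact mem_center_iff.mp h5 x
  · subst h1
    have h2 : (P : Subgroup N) = ⊥ := isComplement'_top_left.mp hc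
    have h3 := P.card_eq_multiplicity
    have h4 : Nat.card (P : Subgroup N) = 1 := by rw [h2]; exact Subgroup.card_bot
    have h5 : 1 ≤ (Nat.card N).factorization p := (hp.out.dvd_iff_one_le_factorization Nat.card_pos.ne').mp hd
    have h6 : p ∣ p ^ (Nat.card N).factorization p := dvd_pow_self p (by omega)
    rw [← h3, h4] at h6
    exact hp.out.one_lt.ne' (Nat.dvd_one.mp h6)

/-- The index of a non-abelian simple normal subgroup of order divisible by `p` is prime to `p`. -/
theorem not_dvd_index {p : ℕ} [hp : Fact p.Prime] (hC : EqConj p X) (P : Sylow p X)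
    (hP : IsCyclic (P : Subgroup X) ∨ ∀ a ∈ (P : Subgroup X), a ^ p = 1) (N : Subgroup X) [hN : N.Normal]
    [hs : IsSimpleGroup N] (hna : ¬ ∀ x ∈ N, ∀ y ∈ N, Commute x y) (hd : p ∣ Nat.card N) : ¬ p ∣ N.index := by
  intro hi
  rcases hP with hP | hP
  · obtain ⟨h1, -⟩ := Cfsg.Agent.S4145.result p P hP N hd hi
    exact no_complement (fun h => hna fun x hx y hy =>
      show x * y = y * x from congrArg Subtype.val (h ⟨x, hx⟩ ⟨y, hy⟩)) hd h1
  · have h1 : (P : Subgroup X) ≤ N := fun a ha => hC.mem_of_normal N hd a (hP a ha)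
    have h2 : N.index ∣ (P : Subgroup X).index := index_dvd_of_le h1
    exact P.not_dvd_index (hi.trans h2)

/-- The centralizer of a normal subgroup of even order and trivial centre is trivial. -/
theorem centralizer_eq_bot (hC : EqConj 2 X) (hO : ∀ N : Subgroup X, N.Normal → Odd (Nat.card N) → N = ⊥)
    (N : Subgroup X) [hN : N.Normal] [hs : IsSimpleGroup N] (hna : ¬ ∀ x ∈ N, ∀ y ∈ N, Commute x y)
    (hd : 2 ∣ Nat.card N) : centralizer (N : Set X) = ⊥ := by
  have h2 : Fact (Nat.Prime 2) := ⟨Nat.prime_two⟩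
  have hCn : (centralizer (N : Set X)).Normal := Subgroup.normal_centralizer
  apply hO _ hCn
  rw [← Nat.not_even_iff_odd]
  intro he
  obtain ⟨⟨c, hc⟩, hco⟩ := exists_prime_orderOf_dvd_card' 2 (even_iff_two_dvd.mp he)
  have hco' : orderOf c = 2 := by rw [← hco]; exact (orderOf_mk c hc).symm
  have hcN : c ∈ N := hC.mem_of_normal N hd c (by rw [← hco', pow_orderOf_eq_one])
  have hcZ : (⟨c, hcN⟩ : N) ∈ center N := by
    rw [mem_center_iff]
    intro y
    exact Subtype.ext (mem_centralizer_iff.mp hc y y.2)
  rcases (inferInstance : (center N).Normal).eq_bot_or_eq_top with h | h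
  · rw [h, mem_bot] at hcZ
    have : c = 1 := congrArg Subtype.val hcZ
    rw [this, orderOf_one] at hco'
    omega
  · apply hna
    intro x hx y hy
    have h5 : (⟨y, hy⟩ : N) ∈ center N := h ▸ mem_top _
    exact congrArg Subtype.val (mem_center_iff.mp h5 ⟨x, hx⟩)

omit [Finite X] in
/-- The group embeds in the automorphism group. -/
theorem conjNormal_injective (N : Subgroup X) [hN : N.Normal] (hCN : centralizer (N : Set X) = ⊥) :
    Function.Injective (MulAut.conjNormal : X →* MulAut N) := by
  rw [injective_iff_map_eq_one]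
  intro g hg
  have : g ∈ centralizer (N : Set X) := by
    rw [mem_centralizer_iff]
    intro n hn
    have h1 : (MulAut.conjNormal g : MulAut N) ⟨n, hn⟩ = ⟨n, hn⟩ := by rw [hg]; rfl
    have h2 : g * n * g⁻¹ = n := by
      have := congrArg Subtype.val h1
      rwa [MulAut.conjNormal_apply] at this
    rw [mul_inv_eq_iff_eq_mul] at h2
    exact h2.symm
  rwa [hCN, mem_bot] at this

/-- The index of a normal `PSL₂(q)` with trivial centralizer. -/
theorem index_dvd_psl (N : Subgroup X) [hN : N.Normal] (hCN : centralizer (N : Set X) = ⊥)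
    {F : Type*} [Field F] [Fintype F] (e : N ≃* Matrix.ProjectiveSpecialLinearGroup (Fin 2) F)
    (p f : ℕ) [Fact p.Prime] (hf : 1 ≤ f) (hF : Fintype.card F = p ^ f) (h4 : 4 ≤ p ^ f) :
    N.index ∣ f * Nat.gcd 2 (Fintype.card F - 1) := by
  have h1 : Nat.card X ∣ Nat.card (MulAut N) := card_dvd_of_injective _ (conjNormal_injective N hCN)
  have h2 : Nat.card (MulAut N) = Nat.card (MulAut (Matrix.ProjectiveSpecialLinearGroup (Fin 2) F)) :=
    Nat.card_congr (MulAut.congr e).toEquiv
  have h3 := Cfsg.Agent.S0813.result p f hf hF 2 le_rfl (fun _ => h4)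
  rw [if_pos rfl, one_mul, Cfsg.Agent.ClassicalGeometry.PSL2Basic.card_PGL2,
    ← Cfsg.Agent.ClassicalGeometry.PSL2Basic.card_PSL2_gcd] at h3
  rw [h2, h3, ← N.card_mul_index, Nat.card_congr e.toEquiv] at h1
  have h5 : 0 < Nat.card (Matrix.ProjectiveSpecialLinearGroup (Fin 2) F) := Nat.card_pos
  apply Nat.dvd_of_mul_dvd_mul_left h5
  have h6 : f * (Nat.card (Matrix.ProjectiveSpecialLinearGroup (Fin 2) F) * Nat.gcd 2 (Fintype.card F - 1)) =
    Nat.card (Matrix.ProjectiveSpecialLinearGroup (Fin 2) F) * (f * Nat.gcd 2 (Fintype.card F - 1)) := by ring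
  rwa [h6] at h1

end Cfsg.Agent.H500
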