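import Cfsg.Agent.H500.ElemN
import Cfsg.Agent.H500.ElemSolv
import Cfsg.Agent.H500.PslUnip
import Cfsg.Agent.Walter.TypeSylow

/-!
# The nonabelian case with elementary abelian Sylow 2-subgroups: the linear groups
-/

set_option autoImplicit false

namespace Cfsg.Agent.H500

open Subgroup Cfsg.Agent.H501 Cfsg.Agent.Walter.Types Cfsg.Agent.Walter.TypeSylow

variable {X : Type*} [Group X] [Finite X]

/-- The setting: a simple normal subgroup, all Sylow subgroups cyclic or of prime exponent. -/
structure Sett (X : Type*) [Group X] [Finite X] (N : Subgroup X) : Prop where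
  eq : ∀ p : ℕ, p.Prime → EqConj p X
  odd : ∀ M : Subgroup X, M.Normal → Odd (Nat.card M) → M = ⊥
  syl : ∀ (p : ℕ) [Fact p.Prime] (P : Sylow p X), IsCyclic (P : Subgroup X) ∨ Cfsg.IsElementaryAbelian p (P : Subgroup X)
  two : ∀ T : Sylow 2 X, Cfsg.IsElementaryAbelian 2 (T : Subgroup X)
  norm : N.Normal
  simple : IsSimpleGroup N
  na : ¬ ∀ x ∈ N, ∀ y ∈ N, Commute x y
  even : 2 ∣ Nat.card N

variable {N : Subgroup X}

theorem Sett.not_dvd (h : Sett X N) {p : ℕ} (hp : p.Prime) (hd : p ∣ Nat.card N) : ¬ p ∣ N.index := by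
  have hpF : Fact p.Prime := ⟨hp⟩
  have := h.norm
  have := h.simple
  obtain ⟨P⟩ : Nonempty (Sylow p X) := inferInstance
  refine not_dvd_index (h.eq p hp) P ?_ N h.na hd
  rcases h.syl p P with h1 | h1
  · exact Or.inl h1
  · exact Or.inr h1.2

theorem Sett.cent (h : Sett X N) : centralizer (N : Set X) = ⊥ := by
  have := h.norm
  have := h.simple
  exact centralizer_eq_bot (h.eq 2 Nat.prime_two) h.odd N h.na h.even

theorem Sett.odd_index (h : Sett X N) : Odd N.index := by
  rw [← Nat.not_even_iff_odd, even_iff_two_dvd]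
  exact h.not_dvd Nat.prime_two h.even

theorem Sett.le (h : Sett X N) (T : Sylow 2 X) : (T : Subgroup X) ≤ N := by
  have := h.norm
  have h2 : Fact (Nat.Prime 2) := ⟨Nat.prime_two⟩
  exact fun a ha => (h.eq 2 Nat.prime_two).mem_of_normal N h.even a ((h.two T).2 a ha)

omit [Finite X] in
/-- If the index is one, the whole group is of the type of `N`. -/
theorem equiv_of_index_one (h : N.index = 1) {Q : Type*} [Group Q] (e : N ≃* Q) : Nonempty (X ≃* Q) :=
  ⟨(Subgroup.topEquiv.symm.trans (MulEquiv.subgroupCongr (index_eq_one.mp h).symm)).trans e⟩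

/-- A normal `PSL₂` of index coprime to 6. -/
theorem Sett.index_eq_one (h : Sett X N) {F : Type*} [Field F] [Fintype F]
    (e : N ≃* Matrix.ProjectiveSpecialLinearGroup (Fin 2) F) {p f : ℕ} [hp : Fact p.Prime]
    (hf : f = 1 ∨ f = 2 ∨ f = 3) (hF : Fintype.card F = p ^ f) (h4 : 4 ≤ p ^ f) : N.index = 1 := by
  have := h.norm
  have h1 := index_dvd_psl N h.cent e p f (by omega) hF h4
  have h2 : ¬ 2 ∣ N.index := h.not_dvd Nat.prime_two h.even
  have h3 : ¬ 3 ∣ N.index := by
    apply h.not_dvd Nat.prime_three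
    rw [Nat.card_congr e.toEquiv]
    exact Cfsg.Agent.ThreePrime.OrderThree.three_dvd_card_psl F
  have h5 : N.index ∣ 6 * 2 := by
    refine h1.trans (Nat.mul_dvd_mul ?_ (Nat.gcd_dvd_left 2 _))
    rcases hf with h | h | h <;> subst h <;> norm_num
  have h6 : N.index ≤ 12 := Nat.le_of_dvd (by norm_num) h5
  generalize N.index = k at *
  interval_cases k <;> omega

/-- Type `PSL₂(q)`, `q ≡ 3, 5 mod 8`: the degree of the field is one or three. -/
theorem Sett.odd_type (h : Sett X N) {F : Type*} [Field F] [Fintype F]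
    (hF8 : Fintype.card F % 8 = 3 ∨ Fintype.card F % 8 = 5)
    (e : N ≃* Matrix.ProjectiveSpecialLinearGroup (Fin 2) F) {p f : ℕ} [hp : Fact p.Prime] (hf0 : 1 ≤ f)
    (hF : Fintype.card F = p ^ f) : f = 1 ∨ f = 3 := by
  have hN := h.norm
  have hsim := h.simple
  have hpodd : p ≠ 2 := by
    rintro rfl
    have h1 : 2 ∣ Fintype.card F := hF ▸ dvd_pow_self 2 (by omega)
    omega
  have hCP : CharP F p := charP_of_card_eq_prime_pow hF
  -- `f` is odd
  have hfodd : ¬ Even f := by
    rintro ⟨k, hk⟩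
    have h1 : Fintype.card F = (p ^ k) * (p ^ k) := by rw [hF, hk, pow_add]
    have h2 : (p ^ k) % 8 < 8 := Nat.mod_lt _ (by norm_num)
    have h3 : (p ^ k * p ^ k) % 8 = ((p ^ k) % 8 * ((p ^ k) % 8)) % 8 := Nat.mul_mod _ _ _
    rw [h1, h3] at hF8
    generalize (p ^ k) % 8 = r at *
    interval_cases r <;> omega
  by_contra hcon
  have hf3 : 3 ≤ f := by
    rcases Nat.lt_or_ge f 3 with h1 | h1
    · interval_cases f
      · omega
      · exact absurd (by decide : Even 2) hfodd
    · exact h1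
  -- a Sylow `p`-subgroup of `X`
  obtain ⟨P⟩ : Nonempty (Sylow p X) := inferInstance
  have hcardN : Nat.card N * 2 = p ^ f * ((p ^ f) ^ 2 - 1) := by
    rw [Nat.card_congr e.toEquiv, Cfsg.Agent.ClassicalGeometry.PSL2Basic.card_PSL2_odd F
      (by rw [Nat.odd_iff]; omega), hF]
  have hcop : Nat.Coprime 2 p := (Nat.coprime_primes Nat.prime_two hp.out).mpr (Ne.symm hpodd)
  have hdN : p ^ f ∣ Nat.card N := by
    have h1 : p ^ f ∣ Nat.card N * 2 := hcardN ▸ Dvd.intro _ rfl
    exact (Nat.Coprime.pow_left f hcop.symm).dvd_of_dvd_mul_right h1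
  have hpN : p ∣ Nat.card N := (dvd_pow_self p (by omega)).trans hdN
  have hpi : ¬ p ∣ N.index := h.not_dvd hp.out hpN
  have hnd : ¬ p ∣ ((p ^ f) ^ 2 - 1) := by
    intro h1
    have h2 : p ∣ (p ^ f) ^ 2 := dvd_pow (dvd_pow_self p (by omega)) (by norm_num)
    have h3 : 1 ≤ (p ^ f) ^ 2 := Nat.one_le_pow _ _ (Nat.pos_of_ne_zero (pow_ne_zero _ hp.out.ne_zero))
    have h4 : p ∣ (p ^ f) ^ 2 - ((p ^ f) ^ 2 - 1) := Nat.dvd_sub h2 h1
    have h5 : (p ^ f) ^ 2 - ((p ^ f) ^ 2 - 1) = 1 := by omega
    rw [h5] at h4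
    exact hp.out.one_lt.ne' (Nat.dvd_one.mp h4)
  have hPcard : Nat.card (P : Subgroup X) = p ^ f := by
    obtain ⟨a, ha⟩ := IsPGroup.iff_card.mp P.isPGroup'
    have h1 := N.card_mul_index
    have h2 := (P : Subgroup X).card_mul_index
    have h3 := P.not_dvd_index
    rw [ha] at h2
    have h4 : p ^ a * (P : Subgroup X).index * 2 = p ^ f * (((p ^ f) ^ 2 - 1) * N.index) := by
      rw [h2, ← h1, mul_right_comm, hcardN]; ring
    have h5 : (Nat.Coprime (p ^ a)) (((p ^ f) ^ 2 - 1) * N.index) := by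
      apply Nat.Coprime.pow_left
      apply Nat.Coprime.mul_right
      · exact (Nat.Prime.coprime_iff_not_dvd hp.out).mpr hnd
      · exact (Nat.Prime.coprime_iff_not_dvd hp.out).mpr hpi
    have h6 : (Nat.Coprime (p ^ f)) ((P : Subgroup X).index * 2) := by
      apply Nat.Coprime.pow_left
      apply Nat.Coprime.mul_right
      · exact (Nat.Prime.coprime_iff_not_dvd hp.out).mpr h3
      · exact hcop.symm
    have h7 : p ^ a ∣ p ^ f := h5.dvd_of_dvd_mul_right (h4 ▸ ((Dvd.intro _ rfl).trans (dvd_of_eq (by ring : p ^ a * ((P : Subgroup X).index * 2) = p ^ a * (P : Subgroup X).index * 2))))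
    have h8 : p ^ f ∣ p ^ a := by
      refine h6.dvd_of_dvd_mul_right ?_
      rw [← mul_assoc, h4]
      exact Dvd.intro _ rfl
    rw [ha]
    exact Nat.dvd_antisymm h7 h8
  -- not cyclic
  have hel : Cfsg.IsElementaryAbelian p (P : Subgroup X) := by
    rcases h.syl p P with h1 | h1
    · exfalso
      obtain ⟨U, hU, hUp⟩ := exists_unip F p
      let U' : Subgroup X := (U.map e.symm.toMonoidHom).map N.subtype
      have hU'c : Nat.card U' = p ^ f := by
        rw [Subgroup.card_map_of_injective N.subtype_injective, ← hF, ← hU,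
          Subgroup.card_map_of_injective e.symm.injective]
      have hU'p : ∀ x ∈ U', x ^ p = 1 := by
        rintro _ ⟨_, ⟨y, hy, rfl⟩, rfl⟩
        have h2 := hUp _ hy
        rw [← map_pow, ← map_pow, h2, map_one, map_one]
      have hU'g : IsPGroup p U' := IsPGroup.of_card hU'c
      obtain ⟨Q, hQ⟩ := hU'g.exists_le_sylow
      have hQc : IsCyclic (Q : Subgroup X) := (Q.equiv P).isCyclic.mpr h1
      have hUc : IsCyclic U' := isCyclic_of_injective (Subgroup.inclusion hQ) (Subgroup.inclusion_injective hQ)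
      obtain ⟨g, hg⟩ := hUc.exists_generator
      have h4 : orderOf g = p ^ f := by rw [orderOf_eq_card_of_forall_mem_zpowers hg, hU'c]
      have h5 : orderOf g ∣ p := orderOf_dvd_of_pow_eq_one (Subtype.ext (hU'p g g.2))
      rw [h4] at h5
      have h6 := Nat.le_of_dvd hp.out.pos h5
      have h7 : p ^ 1 < p ^ f := Nat.pow_lt_pow_right hp.out.one_lt (by omega)
      rw [pow_one] at h7
      omega
    · exact h1
  have hPN : (P : Subgroup X) ≤ N := fun a ha => (h.eq p hp.out).mem_of_normal N hpN a (hel.2 a ha)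
  -- the normalizer is solvable
  have hsol : Group.IsSolvable (normalizer ((P : Subgroup X) : Set X)) := by
    apply solvable_of_inf N h.odd_index
    let P' : Sylow p N := P.subtype hPN
    let P'' : Sylow p (Matrix.ProjectiveSpecialLinearGroup (Fin 2) F) := P'.mapSurjective (f := e.toMonoidHom) e.surjective
    have h1 := Cfsg.Agent.ClassicalGeometry.PSL2Solvable.isSolvable_of_le_normalizer p P'' _ le_rfl
    let K : Subgroup X := normalizer ((P : Subgroup X) : Set X) ⊓ N
    let g : K →* Matrix.ProjectiveSpecialLinearGroup (Fin 2) F := e.toMonoidHom.comp (Subgroup.inclusion inf_le_right)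
    have hg : ∀ x : K, g x ∈ normalizer ((P'' : Subgroup (Matrix.ProjectiveSpecialLinearGroup (Fin 2) F)) : Set _) := by
      intro x
      have hcoe : (P'' : Subgroup (Matrix.ProjectiveSpecialLinearGroup (Fin 2) F)) = (P' : Subgroup N).map e.toMonoidHom :=
        Sylow.coe_mapSurjective _ _
      have h3 : (⟨(x : X), x.2.2⟩ : N) ∈ normalizer ((P' : Subgroup N) : Set N) := by
        rw [mem_normalizer_iff]
        intro y
        have := mem_normalizer_iff.mp x.2.1 (y : X)
        exact this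
      rw [hcoe]
      exact le_normalizer_map e.toMonoidHom ⟨_, h3, rfl⟩
    let g' : K →* normalizer ((P'' : Subgroup (Matrix.ProjectiveSpecialLinearGroup (Fin 2) F)) : Set _) :=
      g.codRestrict _ hg
    refine Group.isSolvable_of_isSolvable_injective (f := g') ?_
    intro a b hab
    have h2 : g a = g b := congrArg Subtype.val hab
    exact Subgroup.inclusion_injective _ (e.injective h2)
  have hKn : (Cfsg.pPrimeCore p (normalizer ((P : Subgroup X) : Set X))).Normal := Lib.Cores.pPrimeCore_normal p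
  rcases Cfsg.Agent.S4025.result (h.eq p hp.out) P f hf3 hel hPcard _ rfl
    (Group.isSolvable_of_surjective (QuotientGroup.mk'_surjective _)) with ⟨h1, -⟩ | ⟨-, h1, -⟩
  · exact hcon (Or.inr h1)
  · exact hpodd h1

end Cfsg.Agent.H500
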