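import Cfsg.Agent.H500.ElemAll
import Cfsg.Agent.H500.AllConj
import Cfsg.Agent.TwoFusion.QuatCoverSL
import Cfsg.Agent.S0201

/-!
# Groups without normal subgroups of odd order in which `p`-subgroups of the same order are conjugate
-/

set_option autoImplicit false

namespace Cfsg.Agent.H500

open Subgroup Cfsg.Agent.H501 Cfsg.Agent.Walter.Types Cfsg.Agent.Walter.TypeSylow Cfsg.Agent.Walter.Main
open Cfsg.Agent.ClassificationK.WalterIso

universe u

variable {X : Type u} [Group X] [Finite X]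

theorem quat_sq : ∀ a b : QuaternionGroup 2, b ≠ 1 → b * b = 1 → a * a = 1 ∨ a * a = b := by decide

/-- Quaternion Sylow 2-subgroups of order eight. -/
theorem quat_main (hC : CentThm.{u}) (hR : ReeThm.{u}) (hS : Step.{u})
    (hD : ∀ p : ℕ, p.Prime → EqConj p X) (hO : Cfsg.oddCore X = ⊥) (T : Sylow 2 X)
    (e : (T : Subgroup X) ≃* QuaternionGroup 2) :
    ∃ (p : ℕ) (_ : Fact p.Prime), (p % 8 = 3 ∨ p % 8 = 5) ∧
      (Nonempty (X ≃* Matrix.SpecialLinearGroup (Fin 2) (ZMod p)) ∨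
       Nonempty (X ≃* Matrix.SpecialLinearGroup (Fin 2) (GaloisField p 3))) := by
  have h2 : Fact (Nat.Prime 2) := ⟨Nat.prime_two⟩
  have hodd := eq_bot_of_odd hO
  have hZ : Nat.card (center X) = 2 := Cfsg.Agent.S0201.result T 0 e (fun M hM h => hodd M hM h)
  obtain ⟨⟨z, hz⟩, hzo⟩ := exists_prime_orderOf_dvd_card' (G := center X) 2 (by rw [hZ])
  have hz2 : orderOf z = 2 := by rw [← hzo]; exact (orderOf_mk z hz).symm
  have hzc : ∀ g, g * z = z * g := mem_center_iff.mp hz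
  have hn : (zpowers z).Normal := by
    constructor
    intro a ha g
    obtain ⟨k, rfl⟩ := mem_zpowers_iff.mp ha
    have : g * z ^ k * g⁻¹ = z ^ k := by
      have h3 : Commute g (z ^ k) := (show Commute g z from hzc g).zpow_right k
      rw [h3.eq, mul_inv_cancel_right]
    rw [this]
    exact ha
  have hTcard : Nat.card (T : Subgroup X) = 8 := by
    rw [Nat.card_congr e.toEquiv, Nat.card_eq_fintype_card, QuaternionGroup.card]
  -- `z ∈ T`
  have hzT : z ∈ (T : Subgroup X) := by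
    have h3 : IsPGroup 2 (zpowers z) := IsPGroup.of_card (n := 1) (by rw [Nat.card_zpowers, hz2, pow_one])
    obtain ⟨Q, hQ⟩ := h3.exists_le_sylow
    obtain ⟨g, hg⟩ := MulAction.exists_smul_eq X Q T
    have h4 : g * z * g⁻¹ ∈ (T : Subgroup X) := by
      rw [← hg, Sylow.coe_subgroup_smul]
      exact Subgroup.smul_mem_pointwise_smul z (MulAut.conj g) _ (hQ (mem_zpowers z))
    rwa [hzc g, mul_inv_cancel_right] at h4
  have hsq : ∀ t ∈ (T : Subgroup X), t ^ 2 ∈ zpowers z := by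
    intro t ht
    have h3 := quat_sq (e ⟨t, ht⟩) (e ⟨z, hzT⟩) (by
      intro h
      have h4 : (⟨z, hzT⟩ : (T : Subgroup X)) = 1 := e.injective (by rw [h, map_one])
      have h5 : z = 1 := congrArg Subtype.val h4
      rw [h5, orderOf_one] at hz2
      omega) (by
      rw [← map_mul]
      have h4 : (⟨z, hzT⟩ : (T : Subgroup X)) * ⟨z, hzT⟩ = 1 := by
        apply Subtype.ext
        show z * z = 1
        rw [← pow_two, ← hz2, pow_orderOf_eq_one]
      rw [h4, map_one])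
    rw [← map_mul] at h3
    rcases h3 with h3 | h3
    · have h4 : (⟨t, ht⟩ : (T : Subgroup X)) * ⟨t, ht⟩ = 1 := e.injective (by rw [h3, map_one])
      have h5 : t * t = 1 := congrArg Subtype.val h4
      rw [pow_two, h5]
      exact one_mem _
    · have h4 := e.injective h3
      have h5 : t * t = z := congrArg Subtype.val h4
      rw [pow_two, h5]
      exact mem_zpowers z
  -- the quotient
  let π : X →* X ⧸ zpowers z := QuotientGroup.mk' (zpowers z)
  have hπ : Function.Surjective π := QuotientGroup.mk'_surjective _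
  have hDY : ∀ p : ℕ, p.Prime → EqConj p (X ⧸ zpowers z) := by
    intro p hp
    have : Fact p.Prime := ⟨hp⟩
    exact EqConj.of_surjective (hD p hp) π hπ
  have hOY : Cfsg.oddCore (X ⧸ zpowers z) = ⊥ := by
    have hMn : (Cfsg.oddCore (X ⧸ zpowers z)).Normal := Lib.Cores.pPrimeCore_normal 2
    have hMo : (Nat.card (Cfsg.oddCore (X ⧸ zpowers z))).Coprime 2 := Lib.Cores.pPrimeCore_coprime 2
    set M := Cfsg.oddCore (X ⧸ zpowers z) with hM
    let L : Subgroup X := M.comap π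
    have hL : L ≤ (T : Subgroup X) := by
      apply Cfsg.Agent.LFourA.OddFree.le_of_cyclic hO T L (x := z)
      intro y hy hyT
      have h3 : π y ∈ M := hy
      have h4 : (orderOf (π y)).Coprime 2 := by
        have : orderOf (π y) ∣ Nat.card M := by
          have h5 : orderOf (⟨π y, h3⟩ : M) ∣ Nat.card M := orderOf_dvd_natCard _
          rwa [Subgroup.orderOf_mk] at h5
        exact Nat.Coprime.coprime_dvd_left this hMo
      obtain ⟨k, hk⟩ := T.isPGroup' ⟨y, hyT⟩
      have h5 : y ^ 2 ^ k = 1 := congrArg Subtype.val hk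
      have h6 : orderOf (π y) ∣ 2 ^ k := orderOf_dvd_of_pow_eq_one (by rw [← map_pow, h5, map_one])
      have h7 : orderOf (π y) = 1 := Nat.eq_one_of_dvd_coprimes (h4.pow_right k) (dvd_refl _) h6
      exact (QuotientGroup.eq_one_iff y).mp (orderOf_eq_one_iff.mp h7)
    rw [eq_bot_iff]
    intro w hw
    obtain ⟨y, rfl⟩ := hπ w
    have hyT : y ∈ (T : Subgroup X) := hL hw
    have h4 : (orderOf (π y)).Coprime 2 := by
      have : orderOf (π y) ∣ Nat.card M := by
        have h5 : orderOf (⟨π y, hw⟩ : M) ∣ Nat.card M := orderOf_dvd_natCard _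
        rwa [Subgroup.orderOf_mk] at h5
      exact Nat.Coprime.coprime_dvd_left this hMo
    obtain ⟨k, hk⟩ := T.isPGroup' ⟨y, hyT⟩
    have h5 : y ^ 2 ^ k = 1 := congrArg Subtype.val hk
    have h6 : orderOf (π y) ∣ 2 ^ k := orderOf_dvd_of_pow_eq_one (by rw [← map_pow, h5, map_one])
    have h7 : orderOf (π y) = 1 := Nat.eq_one_of_dvd_coprimes (h4.pow_right k) (dvd_refl _) h6
    exact mem_bot.mpr (orderOf_eq_one_iff.mp h7)
  let T' : Sylow 2 (X ⧸ zpowers z) := T.mapSurjective hπ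
  have hT'c : (T' : Subgroup (X ⧸ zpowers z)) = (T : Subgroup X).map π := Sylow.coe_mapSurjective hπ T
  have hT'sq : ∀ t ∈ (T' : Subgroup (X ⧸ zpowers z)), t ^ 2 = 1 := by
    intro t ht
    rw [hT'c] at ht
    obtain ⟨y, hy, rfl⟩ := ht
    rw [← map_pow]
    exact (QuotientGroup.eq_one_iff _).mpr (hsq y hy)
  have hT'el : Cfsg.IsElementaryAbelian 2 (T' : Subgroup (X ⧸ zpowers z)) := by
    refine ⟨⟨⟨fun a b => ?_⟩⟩, hT'sq⟩
    have ha := hT'sq _ a.2
    have hb := hT'sq _ b.2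
    have hab := hT'sq _ (mul_mem a.2 b.2)
    apply Subtype.ext
    rw [pow_two] at ha hb hab
    show (a : X ⧸ zpowers z) * b = b * a
    calc (a : X ⧸ zpowers z) * b = ((a : X ⧸ zpowers z) * b)⁻¹ := (inv_eq_of_mul_eq_one_right hab).symm
      _ = (b : X ⧸ zpowers z)⁻¹ * (a : X ⧸ zpowers z)⁻¹ := mul_inv_rev _ _
      _ = b * a := by rw [inv_eq_of_mul_eq_one_right ha, inv_eq_of_mul_eq_one_right hb]
  have hT'card : Nat.card T' = 2 ^ 2 := by
    have h3 := card_map_mul (zpowers z) (T : Subgroup X)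
    have h4 : (T : Subgroup X) ⊓ zpowers z = zpowers z := inf_eq_right.mpr (zpowers_le.mpr hzT)
    have h5 : Nat.card (T' : Subgroup (X ⧸ zpowers z)) = Nat.card ((T : Subgroup X).map π) := by rw [hT'c]
    rw [h4, Nat.card_zpowers, hz2, hTcard] at h3
    change 2 * Nat.card ((T : Subgroup X).map π) = 8 at h3
    rw [← h5] at h3
    omega
  rcases elem_main hC hR hS hDY hOY T' hT'el 2 le_rfl hT'card with ⟨h3, -⟩ | ⟨-, p, hp, hp8, h3⟩
  · exact absurd rfl h3
  · refine ⟨p, hp, hp8, ?_⟩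
    have hpodd : Odd p := by
      rw [Nat.odd_iff]; omega
    rcases h3 with ⟨⟨φ⟩⟩ | ⟨⟨φ⟩⟩
    · left
      exact Cfsg.Agent.TwoFusion.QuatCoverSL.mulEquiv_sl_two z hz hz2 T 1 le_rfl e (by rw [ZMod.card]; exact hpodd) φ
    · right
      have : Fintype (GaloisField p 3) := Fintype.ofFinite _
      refine Cfsg.Agent.TwoFusion.QuatCoverSL.mulEquiv_sl_two z hz hz2 T 1 le_rfl e ?_ φ
      rw [← Nat.card_eq_fintype_card, GaloisField.card p 3 (by norm_num)]
      exact hpodd.pow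

/-- **The list**, for groups without normal subgroups of odd order. -/
theorem main_oddFree (hC : CentThm.{u}) (hR : ReeThm.{u}) (hS : Step.{u})
    (hD : ∀ p : ℕ, p.Prime → EqConj p X) (hO : Cfsg.oddCore X = ⊥) :
    (IsCyclic X ∧ IsPGroup 2 X) ∨
    Nonempty (X ≃* Cfsg.affineGroup (GaloisField 2 3)) ∨
    Nonempty (X ≃* Cfsg.semiaffineGroup (GaloisField 2 3)) ∨
    Nonempty (X ≃* Cfsg.semiaffineGroup (GaloisField 2 5)) ∨
    (Cfsg.IsJ1 X ∧ IsJR X) ∨
    Nonempty (X ≃* Matrix.ProjectiveSpecialLinearGroup (Fin 2) (GaloisField 2 3)) ∨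
    Nonempty (X ≃* MulAut (Matrix.ProjectiveSpecialLinearGroup (Fin 2) (GaloisField 2 5))) ∨
    (∃ (p : ℕ) (_ : Fact p.Prime), (p % 8 = 3 ∨ p % 8 = 5) ∧
      (Nonempty (X ≃* Matrix.ProjectiveSpecialLinearGroup (Fin 2) (ZMod p)) ∨
       Nonempty (X ≃* Matrix.ProjectiveSpecialLinearGroup (Fin 2) (GaloisField p 3)) ∨
       Nonempty (X ≃* Matrix.SpecialLinearGroup (Fin 2) (ZMod p)) ∨
       Nonempty (X ≃* Matrix.SpecialLinearGroup (Fin 2) (GaloisField p 3)))) := by
  have h2 : Fact (Nat.Prime 2) := ⟨Nat.prime_two⟩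
  obtain ⟨T⟩ : Nonempty (Sylow 2 X) := inferInstance
  have hcyc : IsCyclic (T : Subgroup X) → IsCyclic X ∧ IsPGroup 2 X := by
    intro h
    obtain ⟨⟨x, hx⟩, hgen⟩ := h.exists_generator
    have h3 : (⊤ : Subgroup X) ≤ T := by
      apply Cfsg.Agent.LFourA.OddFree.le_of_cyclic hO T ⊤ (x := x)
      intro y _ hy
      obtain ⟨k, hk⟩ := mem_zpowers_iff.mp (hgen ⟨y, hy⟩)
      exact mem_zpowers_iff.mpr ⟨k, congrArg Subtype.val hk⟩
    have h4 : (T : Subgroup X) = ⊤ := top_le_iff.mp h3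
    have e1 : (T : Subgroup X) ≃* X := (MulEquiv.subgroupCongr h4).trans Subgroup.topEquiv
    exact ⟨e1.isCyclic.mp h, T.isPGroup'.of_equiv e1⟩
  rcases Cfsg.Agent.S4020.result (fun p hp => hD p hp) T with h | h | ⟨⟨e⟩⟩
  · exact Or.inl (hcyc h)
  · obtain ⟨n, hn⟩ := IsPGroup.iff_card.mp T.isPGroup'
    rcases Nat.lt_or_ge n 2 with h3 | h3
    · left
      apply hcyc
      interval_cases n
      · rw [pow_zero] at hn
        have := (Nat.card_eq_one_iff_unique.mp hn).1
        exact isCyclic_of_subsingleton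
      · rw [pow_one] at hn
        exact isCyclic_of_prime_card hn
    · rcases elem_main hC hR hS hD hO T h n h3 hn with ⟨-, h4 | h4 | h4 | h4 | h4 | h4⟩ | ⟨-, p, hp, hp8, h4⟩
      · exact Or.inr (Or.inl h4)
      · exact Or.inr (Or.inr (Or.inl h4))
      · exact Or.inr (Or.inr (Or.inr (Or.inl h4)))
      · exact Or.inr (Or.inr (Or.inr (Or.inr (Or.inl h4))))
      · exact Or.inr (Or.inr (Or.inr (Or.inr (Or.inr (Or.inl h4)))))
      · exact Or.inr (Or.inr (Or.inr (Or.inr (Or.inr (Or.inr (Or.inl h4))))))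
      · refine Or.inr (Or.inr (Or.inr (Or.inr (Or.inr (Or.inr (Or.inr ⟨p, hp, hp8, ?_⟩))))))
        rcases h4 with h4 | h4
        · exact Or.inl h4
        · exact Or.inr (Or.inl h4)
  · obtain ⟨p, hp, hp8, h4⟩ := quat_main hC hR hS hD hO T e
    refine Or.inr (Or.inr (Or.inr (Or.inr (Or.inr (Or.inr (Or.inr ⟨p, hp, hp8, ?_⟩))))))
    rcases h4 with h4 | h4
    · exact Or.inr (Or.inr (Or.inl h4))
    · exact Or.inr (Or.inr (Or.inr h4))

end Cfsg.Agent.H500
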